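import Cfsg.Agent.KnownSimple58.HallSym.Main

/-!
Consequences of the classification of Hall subgroups of symmetric groups.
-/

set_option autoImplicit false

namespace Cfsg.Agent.HallSym

open Equiv
open scoped Nat

section generic

variable {G : Type*} [Group G] [Finite G] {π : Set ℕ}

theorem eq_of_hall {H K : Subgroup G} (hH : Cfsg.IsPiHall π H) (hHK : H ≤ K)
    (hK : ∀ p : ℕ, p.Prime → p ∣ Nat.card K → p ∈ π) : H = K := by
  refine le_antisymm hHK (Subgroup.relIndex_eq_one.1 ?_)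
  by_contra hne
  obtain ⟨p, hp, hd⟩ := Nat.exists_prime_and_dvd hne
  exact hH.2 p hp (hK p hp (hd.trans (H.subgroupOf K).index_dvd_card))
    (hd.trans (Subgroup.relIndex_dvd_index_of_le hHK))

theorem le_maximal (H : Subgroup G) (hH : Cfsg.IsPiSubgroup π H) :
    ∃ K, H ≤ K ∧ Maximal (Cfsg.IsPiSubgroup π) K :=
  Finite.exists_le_maximal hH

theorem conj_map_eq {g : G} {H K : Subgroup G} (h : ∀ x, x ∈ K ↔ g⁻¹ * x * g ∈ H) :
    K = H.map (MulAut.conj g).toMonoidHom := by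
  ext x
  rw [h, Subgroup.mem_map_equiv, MulAut.conj_symm_apply]

theorem hall_conj (g : G) {H : Subgroup G} (hH : Cfsg.IsPiHall π H) :
    Cfsg.IsPiHall π (H.map (MulAut.conj g).toMonoidHom) := by
  refine ⟨fun p hp h => hH.1 p hp ?_, fun p hp hπ h => hH.2 p hp hπ ?_⟩
  · rwa [Subgroup.card_map_of_injective (MulAut.conj g).injective] at h
  · exact (Subgroup.index_map_equiv H (MulAut.conj g)) ▸ h

/-- At most one prime of `π` divides the order: the maximal `π`-subgroups are conjugate Hall subgroups. -/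
theorem few (h : ∀ r s : ℕ, r.Prime → s.Prime → r ∈ π → s ∈ π → r ∣ Nat.card G → s ∣ Nat.card G → r = s) :
    Cfsg.IsEPiGroup π G ∧ Cfsg.IsCPiGroup π G ∧ Cfsg.IsDPiGroup π G := by
  by_cases hex : ∃ r : ℕ, r.Prime ∧ r ∈ π ∧ r ∣ Nat.card G
  · obtain ⟨r, hr, hrπ, hrG⟩ := hex
    haveI := Fact.mk hr
    have hp : ∀ H : Subgroup G, (∀ p : ℕ, p.Prime → p ∣ Nat.card H → p ∈ π) → IsPGroup r H := fun H hH => by
      rw [IsPGroup.iff_card]
      refine ⟨_, Nat.eq_prime_pow_of_unique_prime_dvd Nat.card_pos.ne' fun {p} hp hd => ?_⟩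
      exact h p r hp hr (hH p hp hd) hrπ (hd.trans (Subgroup.card_subgroup_dvd_card H)) hrG
    have hsyl : ∀ P : Sylow r G, Cfsg.IsPiHall π (P : Subgroup G) := fun P => by
      refine ⟨fun p hp hd => ?_, fun p hp hπ hd => ?_⟩
      · rw [P.card_eq_multiplicity] at hd
        rw [(Nat.prime_dvd_prime_iff_eq hp hr).1 (hp.dvd_of_dvd_pow hd)]; exact hrπ
      · obtain rfl := h p r hp hr hπ hrπ (hd.trans (Subgroup.index_dvd_card _)) hrG
        exact P.not_dvd_index hd
    have hconj : ∀ H K : Sylow r G, ∃ g : G, (K : Subgroup G) = (H : Subgroup G).map (MulAut.conj g).toMonoidHom := fun H K => by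
      obtain ⟨g, hg⟩ := MulAction.exists_smul_eq G H K
      exact ⟨g, (congrArg Sylow.toSubgroup hg).symm⟩
    refine ⟨⟨_, hsyl default⟩, ⟨⟨_, hsyl default⟩, fun H K hH hK => ?_⟩, fun H K hH hK => ?_⟩
    · obtain ⟨P, hP⟩ := (hp H hH.1).exists_le_sylow
      obtain ⟨Q, hQ⟩ := (hp K hK.1).exists_le_sylow
      obtain rfl := eq_of_hall hH hP (hsyl P).1
      obtain rfl := eq_of_hall hK hQ (hsyl Q).1
      exact hconj P Q
    · obtain ⟨P, hP⟩ := (hp H hH.prop).exists_le_sylow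
      obtain ⟨Q, hQ⟩ := (hp K hK.prop).exists_le_sylow
      obtain rfl := hH.eq_of_ge (hsyl P).1 hP
      obtain rfl := hK.eq_of_ge (hsyl Q).1 hQ
      exact hconj P Q
  · push Not at hex
    have hbot : ∀ H : Subgroup G, (∀ p : ℕ, p.Prime → p ∣ Nat.card H → p ∈ π) → H = ⊥ := fun H hH => by
      rw [← Subgroup.card_eq_one]
      by_contra hne
      obtain ⟨p, hp, hd⟩ := Nat.exists_prime_and_dvd hne
      exact hex p hp (hH p hp hd) (hd.trans (Subgroup.card_subgroup_dvd_card H))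
    have hE : Cfsg.IsPiHall π (⊥ : Subgroup G) :=
      ⟨fun p hp hd => absurd (by simpa using hd) hp.ne_one, fun p hp hπ hd => hex p hp hπ (hd.trans (Subgroup.index_dvd_card _))⟩
    exact ⟨⟨_, hE⟩, ⟨⟨_, hE⟩, fun H K hH hK => ⟨1, by rw [hbot H hH.1, hbot K hK.1, Subgroup.map_bot]⟩⟩,
      fun H K hH hK => ⟨1, by rw [hbot H hH.prop, hbot K hK.prop, Subgroup.map_bot]⟩⟩

/-- All primes dividing the order lie in `π`. -/
theorem all (h : ∀ r : ℕ, r.Prime → r ∣ Nat.card G → r ∈ π) :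
    Cfsg.IsEPiGroup π G ∧ Cfsg.IsCPiGroup π G ∧ Cfsg.IsDPiGroup π G := by
  have hE : Cfsg.IsPiHall π (⊤ : Subgroup G) :=
    ⟨fun p hp hd => h p hp (by rwa [Subgroup.card_top] at hd), fun p hp _ hd => hp.ne_one (by simpa using hd)⟩
  have htop : ∀ H : Subgroup G, Cfsg.IsPiHall π H → H = ⊤ := fun H hH => eq_of_hall hH le_top hE.1
  refine ⟨⟨_, hE⟩, ⟨⟨_, hE⟩, fun H K hH hK => ⟨1, ?_⟩⟩, fun H K hH hK => ⟨1, ?_⟩⟩
  · rw [htop H hH, htop K hK, Subgroup.map_top_of_surjective _ (MulAut.conj (1 : G)).surjective]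
  · rw [← hH.eq_of_ge hE.1 le_top, ← hK.eq_of_ge hE.1 le_top,
      Subgroup.map_top_of_surjective _ (MulAut.conj (1 : G)).surjective]

end generic

variable {π : Set ℕ} {α : Type*} [Fintype α] [DecidableEq α]

/-- The hypothesis of the interesting case. -/
def Mixed (π : Set ℕ) (n : ℕ) : Prop :=
  (∃ r s : ℕ, r.Prime ∧ s.Prime ∧ r ≠ s ∧ r ∈ π ∧ s ∈ π ∧ r ≤ n ∧ s ≤ n) ∧ ∃ r : ℕ, r.Prime ∧ r ≤ n ∧ r ∉ π

theorem prime_le_of_dvd_perm {p : ℕ} (hp : p.Prime) {G : Subgroup (Perm α)} (h : p ∣ Nat.card G) :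
    p ≤ Fintype.card α := by
  have := h.trans (Subgroup.card_subgroup_dvd_card G)
  rw [Nat.card_perm, Nat.card_eq_fintype_card, hp.dvd_factorial] at this
  exact this

theorem unmixed (h : ¬ Mixed π (Fintype.card α)) (G : Subgroup (Perm α)) :
    Cfsg.IsEPiGroup π G ∧ Cfsg.IsCPiGroup π G ∧ Cfsg.IsDPiGroup π G := by
  by_cases h1 : ∃ r s : ℕ, r.Prime ∧ s.Prime ∧ r ≠ s ∧ r ∈ π ∧ s ∈ π ∧ r ≤ Fintype.card α ∧ s ≤ Fintype.card α
  · refine all fun r hr hd => ?_
    by_contra hπ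
    exact h ⟨h1, r, hr, prime_le_of_dvd_perm hr hd, hπ⟩
  · refine few fun r s hr hs hrπ hsπ hrd hsd => ?_
    by_contra hne
    exact h1 ⟨r, s, hr, hs, hne, hrπ, hsπ, prime_le_of_dvd_perm hr hrd, prime_le_of_dvd_perm hs hsd⟩

theorem unmixed_perm (h : ¬ Mixed π (Fintype.card α)) :
    Cfsg.IsEPiGroup π (Perm α) ∧ Cfsg.IsCPiGroup π (Perm α) ∧ Cfsg.IsDPiGroup π (Perm α) := by
  have hle : ∀ r : ℕ, r.Prime → r ∣ Nat.card (Perm α) → r ≤ Fintype.card α := fun r hr hd => by
    rwa [Nat.card_perm, Nat.card_eq_fintype_card, hr.dvd_factorial] at hd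
  by_cases h1 : ∃ r s : ℕ, r.Prime ∧ s.Prime ∧ r ≠ s ∧ r ∈ π ∧ s ∈ π ∧ r ≤ Fintype.card α ∧ s ≤ Fintype.card α
  · refine all fun r hr hd => ?_
    by_contra hπ
    exact h ⟨h1, r, hr, hle r hr hd, hπ⟩
  · refine few fun r s hr hs hrπ hsπ hrd hsd => ?_
    by_contra hne
    exact h1 ⟨r, s, hr, hs, hne, hrπ, hsπ, hle r hr hrd, hle s hs hsd⟩

theorem Mixed.five_le {n : ℕ} (h : Mixed π n) : 5 ≤ n := by
  obtain ⟨⟨r, s, hr, hs, hne, hrπ, hsπ, hrn, hsn⟩, t, ht, htn, htπ⟩ := h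
  have := hr.two_le
  have := hs.two_le
  have := ht.two_le
  have : r ≠ t := fun e => htπ (e ▸ hrπ)
  have : s ≠ t := fun e => htπ (e ▸ hsπ)
  by_contra h5
  have f : ∀ x : ℕ, x.Prime → x ≤ n → x = 2 ∨ x = 3 := fun x hx hxn => by
    have : x ≠ 4 := fun e => absurd (e ▸ hx) (by norm_num)
    have := hx.two_le
    omega
  have := f r hr hrn
  have := f s hs hsn
  have := f t ht htn
  omega

theorem hallA_of_alt {M : Subgroup (alternatingGroup α)} (hM : Cfsg.IsPiHall π M) :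
    HallA π (M.map (alternatingGroup α).subtype) := by
  refine ⟨fun p hp h => hM.1 p hp ?_, fun p hp hπ => ?_⟩
  · rwa [Subgroup.card_map_of_injective (alternatingGroup α).subtype_injective] at h
  · rw [Subgroup.subgroupOf, Subgroup.comap_map_eq_self_of_injective (alternatingGroup α).subtype_injective]
    exact hM.2 p hp hπ

theorem inter_hall {H : Subgroup (Perm α)} (hH : Cfsg.IsPiHall π H) :
    Cfsg.IsPiHall π (H.subgroupOf (alternatingGroup α)) := by
  refine ⟨fun p hp h => hH.1 p hp (h.trans ?_), fun p hp hπ h => ?_⟩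
  · rw [← Subgroup.card_map_of_injective (alternatingGroup α).subtype_injective]
    exact Subgroup.card_dvd_of_le (by rintro _ ⟨x, hx, rfl⟩; exact hx)
  · refine hH.2 p hp hπ (h.trans ?_)
    show H.relIndex (alternatingGroup α) ∣ H.index
    rcases subsingleton_or_nontrivial α with hs | hnt
    · rw [Subgroup.relIndex_eq_one.2 fun x _ => by rw [Subsingleton.elim x 1]; exact one_mem _]
      exact one_dvd _
    have h1 : (H ⊓ alternatingGroup α).relIndex (alternatingGroup α) * (alternatingGroup α).index =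
        (H ⊓ alternatingGroup α).index := Subgroup.relIndex_mul_index inf_le_right
    have h2 : (H ⊓ alternatingGroup α).relIndex H * H.index =
        (H ⊓ alternatingGroup α).index := Subgroup.relIndex_mul_index inf_le_left
    rw [Subgroup.inf_relIndex_left] at h2
    rw [Subgroup.inf_relIndex_right, alternatingGroup.index_eq_two] at h1
    have hdvd : (alternatingGroup α).relIndex H ∣ 2 := by
      rw [← alternatingGroup.index_eq_two (α := α)]
      exact Subgroup.relIndex_dvd_index_of_normal _ _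
    obtain ⟨q, hq⟩ := hdvd
    refine ⟨q, ?_⟩
    rcases Nat.eq_zero_or_pos ((alternatingGroup α).relIndex H) with h0 | h0
    · rw [h0] at hq; omega
    · apply Nat.eq_of_mul_eq_mul_left h0
      calc (alternatingGroup α).relIndex H * H.index = H.relIndex (alternatingGroup α) * 2 := h2.trans h1.symm
        _ = _ := by rw [hq]; ring

theorem hallA_of_perm {H : Subgroup (Perm α)} (hH : Cfsg.IsPiHall π H) : HallA π H :=
  ⟨hH.1, (inter_hall hH).2⟩

theorem part_primes {T : Finset α} {c : ℕ} (hT : T.card = c) (hs : Shape (Fintype.card α) c)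
    (h5 : 5 ≤ Fintype.card α) {p : ℕ} (hp : p.Prime) (hd : p ∣ Nat.card (part (ind T))) : p ≤ c := by
  obtain ⟨h1, h2, h3, h4⟩ := hs.bounds h5
  rw [card_part_ind hT (b := Fintype.card α - c) (by omega) h1 (by omega)] at hd
  rcases hp.dvd_mul.1 hd with hd | hd
  · rcases hp.dvd_mul.1 hd with hd | hd
    · exact hp.dvd_factorial.1 hd
    · exact (hp.dvd_factorial.1 hd).trans (by omega)
  · have := Nat.le_of_dvd (by split <;> norm_num) hd
    split at this <;> omega

theorem part_pi {T : Finset α} {c : ℕ} (hT : T.card = c) (hs : Shape (Fintype.card α) c)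
    (h5 : 5 ≤ Fintype.card α) (hiff : ∀ r : ℕ, r.Prime → r ≤ Fintype.card α → (r ∈ π ↔ r ≤ c)) :
    ∀ p : ℕ, p.Prime → p ∣ Nat.card (part (ind T)) → p ∈ π := fun p hp hd => by
  have := part_primes hT hs h5 hp hd
  exact (hiff p hp (this.trans (hs.bounds h5).2.1.le)).2 this

theorem exists_hall {c : ℕ} (hs : Shape (Fintype.card α) c) (h5 : 5 ≤ Fintype.card α)
    (hiff : ∀ r : ℕ, r.Prime → r ≤ Fintype.card α → (r ∈ π ↔ r ≤ c)) :
    Cfsg.IsEPiGroup π (Perm α) := by
  obtain ⟨h1, h2, h3, h4⟩ := hs.bounds h5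
  obtain ⟨T, -, hT⟩ := Finset.exists_subset_card_eq (s := (Finset.univ : Finset α)) (show c ≤ _ from h2.le)
  refine ⟨part (ind T), part_pi hT hs h5 hiff, fun p hp hπ hd => ?_⟩
  have hpn : p ≤ Fintype.card α := by
    have := hd.trans (Subgroup.index_dvd_card _)
    rwa [Nat.card_perm, Nat.card_eq_fintype_card, hp.dvd_factorial] at this
  have hpc := (hiff p hp hpn).1 hπ
  have hidx := (part (ind T)).card_mul_index
  rw [card_part_ind hT (b := Fintype.card α - c) (by omega) h1 (by omega), Nat.card_perm,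
    Nat.card_eq_fintype_card] at hidx
  rcases hs with ⟨hnp, hc⟩ | ⟨h7 | h7, rfl⟩
  · rw [show Fintype.card α - c = 1 by omega, if_neg (by omega), Nat.factorial_one, mul_one, mul_one, ← hc, Nat.factorial_succ] at hidx
    have : (part (ind T)).index = c + 1 :=
      Nat.eq_of_mul_eq_mul_left (Nat.factorial_pos c) (hidx.trans (mul_comm _ _))
    rw [this, hc] at hd
    have := (Nat.prime_dvd_prime_iff_eq hp hnp).1 hd
    omega
  · rw [h7] at hidx
    norm_num [Nat.factorial] at hidx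
    rw [show (part (ind T)).index = 35 by omega] at hd
    interval_cases p <;> first | omega | (norm_num at hd; done) | (norm_num at hp; done)
  · rw [h7] at hidx
    norm_num [Nat.factorial] at hidx
    rw [show (part (ind T)).index = 35 by omega] at hd
    interval_cases p <;> first | omega | (norm_num at hd; done) | (norm_num at hp; done)

theorem shape_unique {c c' : ℕ} {n : ℕ} (h : Shape n c) (h' : Shape n c')
    (hiff : ∀ r : ℕ, r.Prime → r ≤ n → (r ∈ π ↔ r ≤ c)) (hiff' : ∀ r : ℕ, r.Prime → r ≤ n → (r ∈ π ↔ r ≤ c')) :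
    c = c' := by
  rcases h with ⟨hp, hc⟩ | ⟨h78, hc⟩ <;> rcases h' with ⟨hp', hc'⟩ | ⟨h78', hc'⟩
  · omega
  · rcases h78' with rfl | rfl
    · have := (hiff' 5 (by norm_num) (by norm_num)).1 ((hiff 5 (by norm_num) (by norm_num)).2 (by omega))
      omega
    · norm_num at hp
  · rcases h78 with rfl | rfl
    · have := (hiff 5 (by norm_num) (by norm_num)).1 ((hiff' 5 (by norm_num) (by norm_num)).2 (by omega))
      omega
    · norm_num at hp'
  · omega

theorem part_conj {T T' : Finset α} (hcard : T.card = T'.card) (h2 : 2 ≤ T.card) :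
    ∃ e : Perm α, Perm.sign e = 1 ∧ ∀ g, g ∈ part (ind T') ↔ e⁻¹ * g * e ∈ part (ind T) := by
  obtain ⟨e₀, he₀⟩ : ∃ e : Perm α, ∀ a, e a ∈ T' ↔ a ∈ T := by
    let q : {a // a ∈ T} ≃ {a // a ∈ T'} := Fintype.equivOfCardEq (by simpa using hcard)
    refine ⟨q.extendSubtype, fun a => ?_⟩
    by_cases ha : a ∈ T
    · exact iff_of_true (q.extendSubtype_mem a ha) ha
    · exact iff_of_false (q.extendSubtype_not_mem a ha) ha
  obtain ⟨e, hs, he⟩ : ∃ e : Perm α, Perm.sign e = 1 ∧ ∀ a, e a ∈ T' ↔ a ∈ T := by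
    rcases Int.units_eq_one_or (Perm.sign e₀) with h | h
    · exact ⟨e₀, h, he₀⟩
    obtain ⟨u, v, hu, hv, huv⟩ := Finset.one_lt_card_iff.1 (show 1 < T.card by omega)
    refine ⟨e₀ * Equiv.swap u v, by rw [map_mul, h, Perm.sign_swap huv]; rfl, fun a => ?_⟩
    rw [Perm.mul_apply, he₀]
    by_cases hau : a = u
    · simp [hau, hu, hv]
    by_cases hav : a = v
    · simp [hav, hu, hv]
    rw [Equiv.swap_apply_of_ne_of_ne hau hav]
  refine ⟨e, hs, fun g => ?_⟩
  have hind : ∀ a, ind T a = ind T' (e a) := fun a => by simp [ind, he]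
  simp only [mem_part, Perm.mul_apply, hind]
  constructor
  · intro h x y; simpa using h (e x) (e y)
  · intro h x y
    obtain ⟨x, rfl⟩ := e.surjective x
    obtain ⟨y, rfl⟩ := e.surjective y
    simpa using h x y

theorem perm_hall_eq (hm : Mixed π (Fintype.card α)) {H : Subgroup (Perm α)} (hH : Cfsg.IsPiHall π H) :
    ∃ (T : Finset α) (c : ℕ), T.card = c ∧ Shape (Fintype.card α) c ∧
      (∀ r : ℕ, r.Prime → r ≤ Fintype.card α → (r ∈ π ↔ r ≤ c)) ∧ H = part (ind T) := by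
  obtain ⟨T, c, hT, hs, hiff, hle⟩ := classify (hallA_of_perm hH) hm.1 hm.2
  exact ⟨T, c, hT, hs, hiff, eq_of_hall hH hle (part_pi hT hs hm.five_le hiff)⟩

theorem alt_hall_eq (hm : Mixed π (Fintype.card α)) {M : Subgroup (alternatingGroup α)}
    (hM : Cfsg.IsPiHall π M) :
    ∃ (T : Finset α) (c : ℕ), T.card = c ∧ Shape (Fintype.card α) c ∧
      (∀ r : ℕ, r.Prime → r ≤ Fintype.card α → (r ∈ π ↔ r ≤ c)) ∧
      M = (part (ind T)).subgroupOf (alternatingGroup α) := by
  obtain ⟨T, c, hT, hs, hiff, hle⟩ := classify (hallA_of_alt hM) hm.1 hm.2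
  refine ⟨T, c, hT, hs, hiff, eq_of_hall hM (fun x hx => hle ⟨x, hx, rfl⟩) fun p hp hd => ?_⟩
  refine part_pi hT hs hm.five_le hiff p hp (hd.trans ?_)
  rw [← Subgroup.card_map_of_injective (alternatingGroup α).subtype_injective]
  exact Subgroup.card_dvd_of_le (by rintro _ ⟨x, hx, rfl⟩; exact hx)

theorem perm_C (h : Cfsg.IsEPiGroup π (Perm α)) : Cfsg.IsCPiGroup π (Perm α) := by
  by_cases hm : Mixed π (Fintype.card α)
  · refine ⟨h, fun H K hH hK => ?_⟩
    obtain ⟨T, c, hT, hs, hiff, rfl⟩ := perm_hall_eq hm hH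
    obtain ⟨T', c', hT', hs', hiff', rfl⟩ := perm_hall_eq hm hK
    obtain rfl := shape_unique hs hs' hiff hiff'
    obtain ⟨e, -, he⟩ := part_conj (hT.trans hT'.symm) (by have := (hs.bounds hm.five_le).2.2.2; omega)
    exact ⟨e, conj_map_eq he⟩
  · exact (unmixed_perm hm).2.1

theorem alt_C (h : Cfsg.IsEPiGroup π (alternatingGroup α)) : Cfsg.IsCPiGroup π (alternatingGroup α) := by
  by_cases hm : Mixed π (Fintype.card α)
  · refine ⟨h, fun H K hH hK => ?_⟩
    obtain ⟨T, c, hT, hs, hiff, rfl⟩ := alt_hall_eq hm hH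
    obtain ⟨T', c', hT', hs', hiff', rfl⟩ := alt_hall_eq hm hK
    obtain rfl := shape_unique hs hs' hiff hiff'
    obtain ⟨e, he1, he⟩ := part_conj (hT.trans hT'.symm) (by have := (hs.bounds hm.five_le).2.2.2; omega)
    exact ⟨⟨e, Equiv.Perm.mem_alternatingGroup.2 he1⟩, conj_map_eq fun x => he x⟩
  · exact (unmixed hm _).2.1

theorem perm_E_of_alt (h : Cfsg.IsEPiGroup π (alternatingGroup α)) : Cfsg.IsEPiGroup π (Perm α) := by
  by_cases hm : Mixed π (Fintype.card α)
  · obtain ⟨M, hM⟩ := h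
    obtain ⟨T, c, hT, hs, hiff, -⟩ := alt_hall_eq hm hM
    exact exists_hall hs hm.five_le hiff
  · exact (unmixed_perm hm).1

theorem alt_E_of_perm (h : Cfsg.IsEPiGroup π (Perm α)) : Cfsg.IsEPiGroup π (alternatingGroup α) := by
  obtain ⟨H, hH⟩ := h
  exact ⟨_, inter_hall hH⟩

end Cfsg.Agent.HallSym
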