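import Mathlib

/-!
Binomial coefficients with no small prime divisors, and factorial identities for partitions.
-/

set_option autoImplicit false

namespace Cfsg.Agent.HallSym

open Nat

/-- A number all of whose prime divisors are at most `a`, dividing `X * C` with `C` free of such
primes, divides `X`. -/
theorem smooth_dvd {a C X m : ℕ} (h : ∀ p : ℕ, p.Prime → p ≤ a → ¬ p ∣ C)
    (hm : ∀ p : ℕ, p.Prime → p ∣ m → p ≤ a) (hd : m ∣ X * C) : m ∣ X := by
  refine (Nat.Coprime.dvd_of_dvd_mul_right ?_ hd)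
  by_contra hne
  obtain ⟨p, hp, hpd⟩ := Nat.exists_prime_and_dvd hne
  exact h p hp (hm p hp (hpd.trans (Nat.gcd_dvd_left _ _))) (hpd.trans (Nat.gcd_dvd_right _ _))

theorem key_low {a b i m : ℕ} (h : ∀ p : ℕ, p.Prime → p ≤ a → ¬ p ∣ (a + b).choose b) (hi : i ≤ b)
    (hm : ∀ p : ℕ, p.Prime → p ∣ m → p ≤ a) (hd : m ∣ (a + i).descFactorial i) :
    m ∣ b.descFactorial i := by
  refine smooth_dvd h hm ?_
  have h1 := Nat.choose_mul (n := a + b) (k := b) (Nat.sub_le b i)
  rw [show a + b - (b - i) = a + i by omega, show b - (b - i) = i by omega, Nat.choose_symm hi] at h1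
  rw [Nat.descFactorial_eq_factorial_mul_choose, mul_assoc, mul_comm (b.choose i), h1,
    mul_comm ((a + b).choose (b - i)), ← mul_assoc, ← Nat.descFactorial_eq_factorial_mul_choose]
  exact dvd_mul_of_dvd_left hd _

theorem key_high {a b i m : ℕ} (h : ∀ p : ℕ, p.Prime → p ≤ a → ¬ p ∣ (a + b).choose b) (hi : i ≤ b)
    (hm : ∀ p : ℕ, p.Prime → p ∣ m → p ≤ a) (hd : m ∣ (a + b).descFactorial i) :
    m ∣ b.descFactorial i := by
  refine smooth_dvd h hm ?_
  have h1 := Nat.choose_mul (n := a + b) (k := b) hi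
  rw [Nat.descFactorial_eq_factorial_mul_choose, mul_assoc, mul_comm (b.choose i), h1, ← mul_assoc,
    ← Nat.descFactorial_eq_factorial_mul_choose]
  exact dvd_mul_of_dvd_left hd _

theorem smooth_even {a m : ℕ} (h2 : 2 ≤ a) (he : 2 ∣ m) (h0 : 0 < m) (hm : m ≤ 2 * a) :
    ∀ p : ℕ, p.Prime → p ∣ m → p ≤ a := by
  intro p hp hd
  obtain ⟨c, rfl⟩ := he
  rcases (Nat.Prime.dvd_mul hp).mp hd with e | e
  · have := Nat.le_of_dvd (by omega) e; omega
  · have := Nat.le_of_dvd (by omega) e; omega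

theorem prime_of_key {a b m : ℕ} (ha : 2 ≤ a) (hb : b < m) (hb1 : 1 ≤ b) (hm : m ≤ 2 * a)
    (hkey : (∀ p : ℕ, p.Prime → p ∣ m → p ≤ a) → m ∣ b.descFactorial 1) : m.Prime := by
  by_contra hnp
  have hsm : ∀ p : ℕ, p.Prime → p ∣ m → p ≤ a := by
    intro p hp ⟨c, hc⟩
    rcases c with _ | _ | c
    · omega
    · simp at hc; exact absurd (hc ▸ hp) hnp
    · have : p * 2 ≤ p * (c + 1 + 1) := Nat.mul_le_mul_left _ (by omega)
      omega
  have := hkey hsm
  rw [Nat.descFactorial_one] at this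
  have := Nat.le_of_dvd (by omega) this
  omega

theorem factor_156800 {x : ℕ} (hx : x ∣ 2 ^ 7 * (5 ^ 2 * 7 ^ 2)) (h18 : x % 18 = 14) :
    x = 14 ∨ x = 32 ∨ x = 50 ∨ x = 140 ∨ x = 320 ∨ x = 392 ∨ x = 896 ∨ x = 1400 ∨ x = 3200 ∨
      x = 3920 ∨ x = 39200 := by
  obtain ⟨y, z, hy, hz, rfl⟩ := Nat.dvd_mul.mp hx
  obtain ⟨u, v, hu, hv, rfl⟩ := Nat.dvd_mul.mp hz
  obtain ⟨i, hi, rfl⟩ := (Nat.dvd_prime_pow Nat.prime_two).mp hy
  obtain ⟨j, hj, rfl⟩ := (Nat.dvd_prime_pow (by norm_num : Nat.Prime 5)).mp hu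
  obtain ⟨k, hk, rfl⟩ := (Nat.dvd_prime_pow (by norm_num : Nat.Prime 7)).mp hv
  interval_cases i <;> interval_cases j <;> interval_cases k <;> simp at h18 ⊢

theorem not_sq {x y : ℕ} (h : y ^ 2 = x) (l : ℕ) (h1 : l * l < x) (h2 : x < (l + 1) * (l + 1)) :
    False := by
  rcases Nat.lt_or_ge l y with h' | h'
  · have : (l + 1) * (l + 1) ≤ y * y := Nat.mul_le_mul h' h'
    rw [pow_two] at h; omega
  · have : y * y ≤ l * l := Nat.mul_le_mul h' h'
    rw [pow_two] at h; omega

/-- A binomial coefficient `C (a + b, b)`, `2 ≤ b ≤ a`, without prime divisor at most `a`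
is `C (7, 3)`. -/
theorem binom_exception {a b : ℕ} (hb : 2 ≤ b) (hab : b ≤ a)
    (h : ∀ p : ℕ, p.Prime → p ≤ a → ¬ p ∣ (a + b).choose b) : a = 4 ∧ b = 3 := by
  have ha1 : (a + 1).Prime := prime_of_key (a := a) (b := b) (by omega) (by omega) (by omega) (by omega)
    fun hs => key_low h (by omega) hs (by rw [Nat.descFactorial_one])
  have hn : (a + b).Prime := prime_of_key (a := a) (b := b) (by omega) (by omega) (by omega) (by omega)
    fun hs => key_high h (by omega) hs (by rw [Nat.descFactorial_one])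
  have ea : a % 2 = 0 := by
    rcases ha1.eq_two_or_odd with e | e <;> omega
  have eb : b % 2 = 1 := by
    rcases hn.eq_two_or_odd with e | e <;> omega
  have d2 : ∀ x, x.descFactorial 2 = (x - 1) * x := fun x => by simp [Nat.descFactorial_succ]
  have d4 : ∀ x, x.descFactorial 4 = (x - 3) * ((x - 2) * ((x - 1) * x)) := fun x => by
    simp [Nat.descFactorial_succ]
  have hu : a + 2 ∣ (b - 1) * b := d2 b ▸ key_low h hb
    (smooth_even (by omega) (by omega) (by omega) (by omega)) (by rw [d2]; exact dvd_mul_left _ _)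
  have hv : a + b - 1 ∣ (b - 1) * b := d2 b ▸ key_high h hb
    (smooth_even (by omega) (by omega) (by omega) (by omega)) (by rw [d2]; exact dvd_mul_right _ _)
  rcases (show b = 3 ∨ 5 ≤ b by omega) with rfl | hb5
  · have := Nat.le_of_dvd (by norm_num) hu
    omega
  have hw : a + 4 ∣ (b - 3) * ((b - 2) * ((b - 1) * b)) := d4 b ▸ key_low h (by omega)
    (smooth_even (by omega) (by omega) (by omega) (by omega))
    (by rw [d4]; exact dvd_mul_of_dvd_right (dvd_mul_of_dvd_right (dvd_mul_left _ _) _) _)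
  have hz : a + b - 3 ∣ (b - 3) * ((b - 2) * ((b - 1) * b)) := d4 b ▸ key_high h (by omega)
    (smooth_even (by omega) (by omega) (by omega) (by omega)) (by rw [d4]; exact dvd_mul_right _ _)
  set g := Nat.gcd (a + 2) (a + b - 1) with hg
  have hgb : g ∣ b - 3 := by
    have := Nat.dvd_sub (Nat.gcd_dvd_right (a + 2) (a + b - 1)) (Nat.gcd_dvd_left (a + 2) (a + b - 1))
    rwa [show a + b - 1 - (a + 2) = b - 3 by omega] at this
  have hg6 : g ∣ 6 := by
    have h1 : g ∣ ((b - 1) * b) := (Nat.gcd_dvd_left _ _).trans hu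
    obtain ⟨t, rfl⟩ : ∃ t, b = t + 3 := ⟨b - 3, by omega⟩
    rw [Nat.add_sub_cancel] at hgb
    rw [show t + 3 - 1 = t + 2 by omega, show (t + 2) * (t + 3) = t * (t + 5) + 6 by ring] at h1
    exact (Nat.dvd_add_right (hgb.mul_right _)).mp h1
  obtain ⟨K, hK⟩ : (a + 2) * (a + b - 1) ∣ 6 * ((b - 1) * b) := by
    rw [← Nat.gcd_mul_lcm (a + 2) (a + b - 1)]
    exact Nat.mul_dvd_mul hg6 (Nat.lcm_dvd hu hv)
  have huv : 2 * ((b - 1) * b) < (a + 2) * (a + b - 1) := by
    have h1 : (b + 2) * (2 * (b - 1) + 1) ≤ (a + 2) * (a + b - 1) := Nat.mul_le_mul (by omega) (by omega)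
    have h2 : (b + 2) * (2 * (b - 1) + 1) = 2 * ((b - 1) * b) + (4 * (b - 1) + b + 2) := by ring
    omega
  have hK2 : K = 1 ∨ K = 2 := by
    rcases K with _ | _ | _ | K
    · exfalso
      have : 0 < ((b - 1) * b) := Nat.mul_pos (by omega) (by omega)
      omega
    · exact Or.inl rfl
    · exact Or.inr rfl
    · exfalso
      have : (a + 2) * (a + b - 1) * 3 ≤ (a + 2) * (a + b - 1) * (K + 1 + 1 + 1) :=
        Nat.mul_le_mul_left _ (by omega)
      omega
  obtain ⟨t, rfl⟩ : ∃ t, b = t + 5 := ⟨b - 5, by omega⟩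
  rw [show t + 5 - 1 = t + 4 by omega, show a + (t + 5) - 1 = a + t + 4 by omega] at hK
  rw [show t + 5 - 3 = t + 2 by omega, show t + 5 - 2 = t + 3 by omega,
    show t + 5 - 1 = t + 4 by omega] at hw hz
  rw [show a + (t + 5) - 3 = a + t + 2 by omega] at hz
  rcases hK2 with rfl | rfl
  · exfalso
    have e : ((a : ℤ) - 2 * t - 8) * (a + 3 * t + 14) = 0 := by
      have : 6 * ((t + 4) * (t + 5) : ℤ) = (a + 2) * (a + t + 4) * 1 := by exact_mod_cast hK
      linear_combination -this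
    obtain rfl : a = 2 * t + 8 := by
      rcases mul_eq_zero.mp e with e | e <;> omega
    have hb1 : t + 6 ∣ 24 := by
      have h1 : t + 6 ∣ (t + 2) * ((t + 3) * ((t + 4) * (t + 5))) :=
        (show t + 6 ∣ 2 * t + 8 + 4 from ⟨2, by ring⟩).trans hw
      have e : (t + 2) * ((t + 3) * ((t + 4) * (t + 5))) + 50 * (t + 6) =
          (t + 6) * ((t + 6) * (t * t + 2 * t + 11)) + 24 := by ring
      have h2 : t + 6 ∣ (t + 2) * ((t + 3) * ((t + 4) * (t + 5))) + 50 * (t + 6) := dvd_add h1 (dvd_mul_left _ _)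
      rw [e] at h2
      exact (Nat.dvd_add_right (dvd_mul_right _ _)).mp h2
    have : t + 6 ≤ 24 := Nat.le_of_dvd (by norm_num) hb1
    have : t ≤ 18 := by omega
    interval_cases t
    all_goals first
      | omega
      | (norm_num at hb1; done)
      | (norm_num at ha1; done)
      | exact h 2 Nat.prime_two (by norm_num) (by decide +kernel)
  · exfalso
    have h3 : 3 * ((t + 4) * (t + 5)) = (a + 2) * (a + t + 4) := by linarith
    have hb3 : 3 ∣ t + 2 := by
      have hl : Nat.lcm (a + 2) (a + (t + 5) - 1) ∣ (t + 4) * (t + 5) := by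
        rw [show t + 4 = t + 5 - 1 by omega]; exact Nat.lcm_dvd hu hv
      have hgl := Nat.gcd_mul_lcm (a + 2) (a + (t + 5) - 1)
      rw [show a + (t + 5) - 1 = a + t + 4 by omega] at hgl hl hg
      rw [← h3, ← hg] at hgl
      obtain ⟨s, hs⟩ := hl
      rw [hs] at hgl
      have hpos : 0 < Nat.lcm (a + 2) (a + t + 4) := Nat.lcm_pos (by omega) (by omega)
      have : g = 3 * s := Nat.eq_of_mul_eq_mul_right hpos (hgl.trans (by ring))
      rw [show t + 5 - 3 = t + 2 by omega, this] at hgb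
      exact (dvd_mul_right 3 s).trans hgb
    have hprod : (a + 4) * (a + t + 2) = (t + 3) * (3 * t + 20) := by
      zify at h3 ⊢; linear_combination -h3
    set P := (t + 2) * ((t + 3) * ((t + 4) * (t + 5))) with hP
    set d := Nat.gcd (a + 4) (a + t + 2) with hd
    have hd840 : d ∣ 840 := by
      rcases Nat.lt_or_ge t 2 with ht | ht
      · omega
      · obtain ⟨s, rfl⟩ : ∃ s, t = s + 2 := ⟨t - 2, by omega⟩
        have h1 : d ∣ s := by
          have := Nat.dvd_sub (Nat.gcd_dvd_right (a + 4) (a + (s + 2) + 2)) (Nat.gcd_dvd_left (a + 4) (a + (s + 2) + 2))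
          rwa [show a + (s + 2) + 2 - (a + 4) = s by omega] at this
        have h2 : d ∣ P := (Nat.gcd_dvd_left _ _).trans hw
        rw [hP, show (s + 2 + 2) * ((s + 2 + 3) * ((s + 2 + 4) * (s + 2 + 5))) =
          s * (s * s * s + 22 * (s * s) + 179 * s + 638) + 840 by ring] at h2
        exact (Nat.dvd_add_right (h1.mul_right _)).mp h2
    have h840 : (t + 3) * (3 * t + 20) ∣ 840 * P := by
      rw [← hprod, ← Nat.gcd_mul_lcm (a + 4) (a + t + 2)]
      exact Nat.mul_dvd_mul hd840 (Nat.lcm_dvd hw hz)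
    have hx : 3 * t + 20 ∣ 840 * ((t + 2) * ((t + 4) * (t + 5))) := by
      refine Nat.dvd_of_mul_dvd_mul_left (show 0 < t + 3 by omega) (h840.trans ?_)
      rw [hP]; exact dvd_of_eq (by ring)
    have hN : 3 * t + 20 ∣ 470400 := by
      have hZ : ((3 * t + 20 : ℕ) : ℤ) ∣ ((840 * ((t + 2) * ((t + 4) * (t + 5))) : ℕ) : ℤ) := by exact_mod_cast hx
      have hmod : ((3 * t + 20 : ℕ) : ℤ) ∣ 470400 := by
        obtain ⟨c, hc⟩ := hZ
        refine ⟨840 * ((3 * t + 20 : ℤ) ^ 2 - 27 * (3 * t + 20) + 222) - 27 * c, ?_⟩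
        push_cast at hc ⊢
        linear_combination (-27) * hc
      exact_mod_cast hmod
    have hodd : t % 2 = 0 := by omega
    have hN' : 3 * t + 20 ∣ 2 ^ 7 * (5 ^ 2 * 7 ^ 2) := by
      refine Nat.Coprime.dvd_of_dvd_mul_right ?_ (show 3 * t + 20 ∣ 2 ^ 7 * (5 ^ 2 * 7 ^ 2) * 3 by
        norm_num; exact hN)
      exact Nat.Coprime.symm ((Nat.Prime.coprime_iff_not_dvd Nat.prime_three).mpr (by omega))
    have hdisc : (2 * a + t + 6) ^ 2 = 13 * t * t + 112 * t + 244 := by
      zify at h3 ⊢; linear_combination -4 * h3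
    rcases factor_156800 hN' (by omega) with e | e | e | e | e | e | e | e | e | e | e
    · omega
    · obtain rfl : t = 4 := by omega
      obtain rfl : a = 10 := by
        rcases Nat.lt_or_ge a 10 with h' | h'
        · have := Nat.pow_le_pow_left (show 2 * a + 4 + 6 ≤ 28 by omega) 2; omega
        · rcases Nat.eq_or_lt_of_le h' with h'' | h''
          · exact h''.symm
          · have := Nat.pow_le_pow_left (show 32 ≤ 2 * a + 4 + 6 by omega) 2; omega
      exact h 2 Nat.prime_two (by norm_num) (by decide +kernel)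
    · obtain rfl : t = 10 := by omega
      exact not_sq hdisc (Nat.sqrt (13 * 10 * 10 + 112 * 10 + 244)) (by norm_num) (by norm_num)
    · obtain rfl : t = 40 := by omega
      exact not_sq hdisc (Nat.sqrt (13 * 40 * 40 + 112 * 40 + 244)) (by norm_num) (by norm_num)
    · obtain rfl : t = 100 := by omega
      exact not_sq hdisc (Nat.sqrt (13 * 100 * 100 + 112 * 100 + 244)) (by norm_num) (by norm_num)
    · obtain rfl : t = 124 := by omega
      exact not_sq hdisc (Nat.sqrt (13 * 124 * 124 + 112 * 124 + 244)) (by norm_num) (by norm_num)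
    · obtain rfl : t = 292 := by omega
      exact not_sq hdisc (Nat.sqrt (13 * 292 * 292 + 112 * 292 + 244)) (by norm_num) (by norm_num)
    · obtain rfl : t = 460 := by omega
      exact not_sq hdisc (Nat.sqrt (13 * 460 * 460 + 112 * 460 + 244)) (by norm_num) (by norm_num)
    · obtain rfl : t = 1060 := by omega
      exact not_sq hdisc (Nat.sqrt (13 * 1060 * 1060 + 112 * 1060 + 244)) (by norm_num) (by norm_num)
    · obtain rfl : t = 1300 := by omega
      exact not_sq hdisc (Nat.sqrt (13 * 1300 * 1300 + 112 * 1300 + 244)) (by norm_num) (by norm_num)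
    · obtain rfl : t = 13060 := by omega
      exact not_sq hdisc (Nat.sqrt (13 * 13060 * 13060 + 112 * 13060 + 244)) (by norm_num) (by norm_num)

/-- One step of counting equal partitions. -/
theorem factorial_step (i s : ℕ) (hs : 1 ≤ s) :
    ((i + 1) * s)! = (i * s)! * s ! * (i + 1) * ((i + 1) * s - 1).choose (s - 1) := by
  have h := Nat.choose_mul_factorial_mul_factorial (show s - 1 ≤ (i + 1) * s - 1 by
    have : s ≤ (i + 1) * s := Nat.le_mul_of_pos_left s (by omega)
    omega)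
  have hN : 1 ≤ (i + 1) * s := Nat.mul_pos (by omega) (by omega)
  have e : (i + 1) * s - 1 - (s - 1) = i * s := by rw [add_mul, one_mul]; omega
  rw [e] at h
  rw [← Nat.mul_factorial_pred (show (i + 1) * s ≠ 0 by omega), ← h,
    ← Nat.mul_factorial_pred (show s ≠ 0 by omega)]
  ring

theorem pow_factorial_mul_dvd {s : ℕ} (hs : 1 ≤ s) : ∀ k, s ! ^ k * k ! ∣ (k * s)!
  | 0 => by simp
  | k + 1 => by
    rw [factorial_step k s hs, pow_succ, Nat.factorial_succ]
    obtain ⟨c, hc⟩ := pow_factorial_mul_dvd hs k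
    exact ⟨c * ((k + 1) * s - 1).choose (s - 1), by rw [hc]; ring⟩

theorem pow_factorial_mul_choose_dvd {s j : ℕ} (hs : 1 ≤ s) :
    ∀ k, j + 1 ≤ k → s ! ^ k * k ! * ((j + 1) * s - 1).choose (s - 1) ∣ (k * s)!
  | 0, h => absurd h (by omega)
  | k + 1, h => by
    rcases Nat.eq_or_lt_of_le h with e | e
    · obtain rfl : j = k := by omega
      rw [factorial_step j s hs, pow_succ, Nat.factorial_succ]
      obtain ⟨c, hc⟩ := pow_factorial_mul_dvd hs j
      exact ⟨c, by rw [hc]; ring⟩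
    · obtain ⟨c, hc⟩ := pow_factorial_mul_choose_dvd hs k (show j + 1 ≤ k by omega)
      rw [factorial_step k s hs, pow_succ, Nat.factorial_succ]
      exact ⟨c * ((k + 1) * s - 1).choose (s - 1), by rw [hc]; ring⟩

end Cfsg.Agent.HallSym
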