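import Mathlib
import Cfsg.Prelude

/-!
Disjoint cycles and Klein groups inside subgroups of index prime to given primes.
-/

set_option autoImplicit false

namespace Cfsg.Agent.HallSym

open Equiv
open scoped Pointwise

variable {α : Type*} [Fintype α] [DecidableEq α]

/-- A subgroup whose order involves only primes of `π` and which contains a Hall `π`-subgroup of the
alternating group. -/
def HallA (π : Set ℕ) (H : Subgroup (Perm α)) : Prop :=
  (∀ p : ℕ, p.Prime → p ∣ Nat.card H → p ∈ π) ∧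
    ∀ p : ℕ, p.Prime → p ∈ π → ¬ p ∣ (H.subgroupOf (alternatingGroup α)).index

theorem HallA.conj_mem {π : Set ℕ} {H : Subgroup (Perm α)} (hH : HallA π H) {p : ℕ} (hp : p.Prime)
    (hπ : p ∈ π) {P : Subgroup (Perm α)} (hP : IsPGroup p P) (hPA : P ≤ alternatingGroup α) :
    ∃ g : Perm α, ∀ x ∈ P, g * x * g⁻¹ ∈ H := by
  haveI : Fact p.Prime := ⟨hp⟩
  obtain ⟨Q⟩ : Nonempty (Sylow p ↥(H.subgroupOf (alternatingGroup α))) := inferInstance
  set M := H.subgroupOf (alternatingGroup α)
  have hcard : Nat.card (Q.toSubgroup.map M.subtype) =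
      p ^ (Nat.card (alternatingGroup α)).factorization p := by
    rw [Subgroup.card_map_of_injective M.subtype_injective, Q.card_eq_multiplicity, ← M.card_mul_index,
      Nat.factorization_mul Nat.card_pos.ne' Subgroup.index_ne_zero_of_finite, Finsupp.coe_add, Pi.add_apply,
      Nat.factorization_eq_zero_of_not_dvd (hH.2 p hp hπ), add_zero]
  let S : Sylow p (alternatingGroup α) := Sylow.ofCard _ hcard
  obtain ⟨S', hS'⟩ := (hP.comap_subtype (K := alternatingGroup α)).exists_le_sylow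
  obtain ⟨g, hg⟩ := MulAction.exists_smul_eq (alternatingGroup α) S' S
  refine ⟨g, fun x hx => ?_⟩
  have hx' : (⟨x, hPA hx⟩ : alternatingGroup α) ∈ S'.toSubgroup := hS' hx
  have hmem : g * ⟨x, hPA hx⟩ * g⁻¹ ∈ S.toSubgroup := by
    rw [← hg]
    show _ ∈ MulAut.conj g • S'.toSubgroup
    exact Subgroup.mem_pointwise_smul_iff_inv_smul_mem.2 (by simpa [MulAut.smul_def, mul_assoc] using hx')
  obtain ⟨y, -, hy⟩ := (Subgroup.mem_map.1 hmem)
  have : g * ⟨x, hPA hx⟩ * g⁻¹ ∈ M := hy ▸ y.2
  exact this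

variable {G : Type*} [AddGroup G] {k : ℕ}

/-- Translations along disjoint copies of `G`. -/
noncomputable def tr (e : Fin k × G ↪ α) : (Fin k → Multiplicative G) →* Perm α :=
  (Perm.viaEmbeddingHom e).comp
    { toFun := fun z => Equiv.prodCongrRight fun i => Equiv.addLeft (Multiplicative.toAdd (z i))
      map_one' := Equiv.ext fun ⟨i, v⟩ => congrArg (Prod.mk i) (zero_add v)
      map_mul' := fun a b => Equiv.ext fun ⟨i, v⟩ => congrArg (Prod.mk i) (add_assoc _ _ v) }

theorem tr_apply (e : Fin k × G ↪ α) (z : Fin k → Multiplicative G) (i : Fin k) (v : G) :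
    tr e z (e (i, v)) = e (i, Multiplicative.toAdd (z i) + v) :=
  Perm.viaEmbedding_apply _ e (i, v)

theorem tr_apply_of_notMem (e : Fin k × G ↪ α) (z : Fin k → Multiplicative G) {a : α}
    (h : a ∉ Set.range e) : tr e z a = a :=
  Perm.viaEmbedding_apply_of_notMem _ e a h

theorem tr_conj (e : Fin k × G ↪ α) (z : Fin k → Multiplicative G) (g : Perm α) :
    g * tr e z * g⁻¹ = tr (e.trans g.toEmbedding) z := by
  refine Equiv.ext fun a => ?_
  obtain ⟨b, rfl⟩ := g.surjective a
  rw [Perm.mul_apply, Perm.mul_apply, Perm.inv_def, Equiv.symm_apply_apply]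
  by_cases h : b ∈ Set.range e
  · obtain ⟨⟨i, v⟩, rfl⟩ := h
    rw [tr_apply, show g (e (i, v)) = e.trans g.toEmbedding (i, v) from rfl, tr_apply]
    rfl
  · rw [tr_apply_of_notMem e z h, tr_apply_of_notMem]
    rintro ⟨w, hw⟩
    exact h ⟨w, g.injective hw⟩

variable {π : Set ℕ} {H : Subgroup (Perm α)}

theorem HallA.exists_tr [Fintype G] (hH : HallA π H) {p d : ℕ} (hp : p.Prime) (hπ : p ∈ π)
    (hG : Fintype.card G = p ^ d) (hk : k * Fintype.card G ≤ Fintype.card α)
    (heven : ∀ (e : Fin k × G ↪ α) z, tr e z ∈ alternatingGroup α) :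
    ∃ e : Fin k × G ↪ α, ∀ z, tr e z ∈ H := by
  haveI : Fact p.Prime := ⟨hp⟩
  obtain ⟨e⟩ : Nonempty (Fin k × G ↪ α) := Function.Embedding.nonempty_of_card_le (by simpa using hk)
  have hP : IsPGroup p (tr e).range := (IsPGroup.of_card (n := d * k) (show Nat.card (Fin k → Multiplicative G) = _ by
    rw [Nat.card_fun, Nat.card_congr Multiplicative.toAdd, Nat.card_eq_fintype_card, hG, Nat.card_fin,
      ← pow_mul])).of_surjective _ (tr e).rangeRestrict_surjective
  obtain ⟨g, hg⟩ := hH.conj_mem hp hπ hP (by rintro _ ⟨z, rfl⟩; exact heven e z)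
  exact ⟨e.trans g.toEmbedding, fun z => by rw [← tr_conj]; exact hg _ ⟨z, rfl⟩⟩

theorem tr_even_of_odd {r : ℕ} (hodd : Odd r) (e : Fin k × ZMod r ↪ α) (z : Fin k → Multiplicative (ZMod r)) :
    tr e z ∈ alternatingGroup α := by
  rw [Equiv.Perm.mem_alternatingGroup]
  have hz : z ^ r = 1 := funext fun i => Multiplicative.toAdd.injective (by
    show r • Multiplicative.toAdd (z i) = 0
    exact ZModModule.char_nsmul_eq_zero r _)
  have := congrArg (fun w => Perm.sign (tr e w)) hz
  simp only [map_pow, map_one] at this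
  rcases Int.units_eq_one_or (Perm.sign (tr e z)) with h | h
  · exact h
  · rw [h, hodd.neg_one_pow] at this; exact absurd this (by decide)

/-- `x` is the cycle through the values of `f` and fixes everything else. -/
structure IsCyc {r : ℕ} (x : Perm α) (f : ZMod r ↪ α) : Prop where
  step : ∀ v, x (f v) = f (v + 1)
  fixed : ∀ a, a ∉ Set.range f → x a = a

theorem HallA.exists_cycles (hH : HallA π H) {r : ℕ} (hr : r.Prime) (hodd : Odd r) (hπ : r ∈ π) :
    ∃ e : Fin (Fintype.card α / r) × ZMod r ↪ α, ∀ i, ∃ x ∈ H,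
      IsCyc x ⟨fun v => e (i, v), fun v w h => (Prod.mk.injEq _ _ _ _ ▸ e.injective h).2⟩ := by
  haveI : NeZero r := ⟨hr.ne_zero⟩
  obtain ⟨e, he⟩ := hH.exists_tr (G := ZMod r) (k := Fintype.card α / r) hr hπ (d := 1) (by simp)
    (by rw [ZMod.card]; exact Nat.div_mul_le_self _ _) (tr_even_of_odd hodd)
  refine ⟨e, fun i => ⟨_, he (Pi.mulSingle i (Multiplicative.ofAdd 1)), fun v => ?_, fun a ha => ?_⟩⟩
  · show tr e _ (e (i, v)) = e (i, v + 1)
    rw [tr_apply, Pi.mulSingle_eq_same, toAdd_ofAdd, add_comm]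
  · by_cases h : a ∈ Set.range e
    · obtain ⟨⟨j, v⟩, rfl⟩ := h
      have hji : j ≠ i := fun e' => ha ⟨v, by subst e'; rfl⟩
      rw [tr_apply, Pi.mulSingle_eq_of_ne hji, toAdd_one, zero_add]
    · exact tr_apply_of_notMem _ _ h

theorem IsCyc.pow_apply {r : ℕ} {x : Perm α} {f : ZMod r ↪ α} (hx : IsCyc x f) (i : ℕ) (v : ZMod r) :
    (x ^ i) (f v) = f (v + i) := by
  induction i with
  | zero => simp
  | succ i ih => rw [pow_succ', Perm.mul_apply, ih, hx.step, Nat.cast_succ, add_assoc]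

/-- An invariant equivalence relation absorbs a cycle of prime length. -/
theorem IsCyc.absorb {r : ℕ} [Fact r.Prime] {x : Perm α} {f : ZMod r ↪ α} (hx : IsCyc x f)
    {R : α → α → Prop} (hR : Equivalence R) (hinv : ∀ a b, R a b → R (x a) (x b))
    {v₀ : ZMod r} {w : α} (hne : w ≠ f v₀) (hw : R (f v₀) w) : ∀ v, R (f v₀) (f v) := by
  obtain ⟨j, hj, hRj⟩ : ∃ j : ZMod r, j ≠ 0 ∧ R (f v₀) (f (v₀ + j)) := by
    by_cases h : w ∈ Set.range f
    · obtain ⟨u, rfl⟩ := h
      exact ⟨u - v₀, sub_ne_zero.2 fun e => hne (by rw [e]), by simpa using hw⟩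
    · refine ⟨1, one_ne_zero, hR.trans hw (hR.symm ?_)⟩
      have := hinv _ _ hw
      rwa [hx.step, hx.fixed w h] at this
  have hinv' : ∀ i : ℕ, ∀ a b, R a b → R ((x ^ i) a) ((x ^ i) b) := by
    intro i
    induction i with
    | zero => intro a b h; simpa using h
    | succ i ih => intro a b h; rw [pow_succ', Perm.mul_apply, Perm.mul_apply]; exact hinv _ _ (ih a b h)
  have hstep : ∀ u, R (f (v₀ + u)) (f (v₀ + u + j)) := by
    intro u
    have := hinv' u.val _ _ hRj
    rw [hx.pow_apply, hx.pow_apply, ZMod.natCast_zmod_val] at this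
    rwa [add_right_comm v₀ u j]
  have hmul : ∀ n : ℕ, R (f v₀) (f (v₀ + n * j)) := by
    intro n
    induction n with
    | zero => simpa using hR.refl _
    | succ n ih =>
      refine hR.trans ih ?_
      have := hstep (n * j)
      rwa [Nat.cast_succ, add_one_mul, ← add_assoc]
  intro v
  have := hmul ((v - v₀) * j⁻¹).val
  rwa [ZMod.natCast_zmod_val, mul_assoc, inv_mul_cancel₀ hj, mul_one, add_sub_cancel] at this

/-- A point in an orbit of length three makes the order divisible by three. -/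
theorem three_dvd_orderOf {z : Perm α} {u : α} (h1 : z u ≠ u) (h3 : z (z (z u)) = u) : 3 ∣ orderOf z := by
  by_contra h
  have hco : Nat.Coprime (orderOf z) 3 :=
    Nat.Coprime.symm ((Nat.Prime.coprime_iff_not_dvd Nat.prime_three).2 h)
  have hstab : z ^ 3 ∈ MulAction.stabilizer (Perm α) u := h3
  obtain ⟨m, hm⟩ := exists_pow_eq_self_of_coprime hco.symm
  have := pow_mem hstab m
  rw [hm] at this
  exact h1 this

end Cfsg.Agent.HallSym
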