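import Cfsg.Agent.KnownSimple58.HallSym.Cycles

/-!
No subgroup of odd order of the symmetric group has index prime to two odd primes at most the degree.
-/

set_option autoImplicit false

namespace Cfsg.Agent.HallSym

open Equiv MulAction
open scoped Pointwise

variable {α : Type*} [Fintype α] [DecidableEq α]

theorem exists_odd_pow {G : Type*} [Group G] [Finite G] (g : G) (h : Odd (orderOf g)) :
    ∃ m : ℕ, (g ^ 2) ^ m = g :=
  exists_pow_eq_self_of_coprime ((Nat.coprime_two_left).mpr h)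

theorem IsCyc.maps {r : ℕ} {x : Perm α} {f : ZMod r ↪ α} (hx : IsCyc x f) {U : Set α}
    (hU : Set.range f ⊆ U) : ∀ a ∈ U, x a ∈ U := by
  intro a ha
  by_cases h : a ∈ Set.range f
  · obtain ⟨v, rfl⟩ := h
    rw [hx.step]; exact hU ⟨_, rfl⟩
  · rw [hx.fixed a h]; exact ha

/-- In a group of odd order, a cycle meets a longer or other cycle only inside it. -/
theorem cycles_apart {H : Subgroup (Perm α)} (hodd : Odd (Nat.card H)) {r s : ℕ}
    [Fact r.Prime] [Fact s.Prime] {x y : Perm α} (hxH : x ∈ H) (hyH : y ∈ H)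
    {f : ZMod r ↪ α} {g : ZMod s ↪ α} (hx : IsCyc x f) (hy : IsCyc y g)
    (hmeet : ∃ a, a ∈ Set.range f ∧ a ∈ Set.range g) (hr2 : 2 ≤ r) : Set.range g ⊆ Set.range f := by
  classical
  by_contra hsub
  obtain ⟨a₀, ha₀f, ha₀g⟩ := hmeet
  obtain ⟨v₀, hv₀⟩ := ha₀f
  obtain ⟨u₀, hu₀⟩ := ha₀g
  set U : Set α := Set.range f ∪ Set.range g with hU
  have hiff : ∀ z : Perm α, (∀ a ∈ U, z a ∈ U) → ∀ a, z a ∈ U ↔ a ∈ U := by
    intro z hz a
    refine ⟨fun h => ?_, hz a⟩
    have hb : Function.Bijective (fun w : U => (⟨z w.1, hz w.1 w.2⟩ : U)) :=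
      Finite.injective_iff_bijective.1 fun w w' e => Subtype.ext (z.injective (congrArg Subtype.val e))
    obtain ⟨w, hw⟩ := hb.2 ⟨z a, h⟩
    rw [← z.injective (congrArg Subtype.val hw)]
    exact w.2
  let Hs : Subgroup (Perm α) :=
    { carrier := {z | z ∈ H ∧ ∀ a, z a ∈ U ↔ a ∈ U}
      one_mem' := ⟨one_mem _, fun _ => Iff.rfl⟩
      mul_mem' := fun {z w} hz hw => ⟨mul_mem hz.1 hw.1, fun a => (hz.2 _).trans (hw.2 a)⟩
      inv_mem' := fun {z} hz => ⟨inv_mem hz.1, fun a => by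
        have := hz.2 (z⁻¹ a); simp at this; exact this.symm⟩ }
  let ρ : Hs →* Perm U :=
    { toFun := fun z => (z : Perm α).subtypePerm z.2.2
      map_one' := rfl
      map_mul' := fun _ _ => rfl }
  set K := ρ.range
  have hKodd : Odd (Nat.card K) := by
    have h1 : Nat.card K ∣ Nat.card Hs := Subgroup.card_range_dvd ρ
    have h2 : Nat.card Hs ∣ Nat.card H := Subgroup.card_dvd_of_le (fun z hz => hz.1)
    exact Odd.of_dvd_nat hodd (h1.trans h2)
  let X : K := ⟨ρ ⟨x, hxH, hiff x (hx.maps Set.subset_union_left)⟩, _, rfl⟩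
  let Y : K := ⟨ρ ⟨y, hyH, hiff y (hy.maps Set.subset_union_right)⟩, _, rfl⟩
  let F : ZMod r → U := fun v => ⟨f v, Or.inl ⟨v, rfl⟩⟩
  let G' : ZMod s → U := fun v => ⟨g v, Or.inr ⟨v, rfl⟩⟩
  have hXF : ∀ (i : ℕ) v, (X ^ i) • F v = F (v + i) := by
    intro i
    induction i with
    | zero => intro v; simp
    | succ i ih =>
      intro v
      rw [pow_succ', mul_smul, ih]
      apply Subtype.ext
      show x (f (v + i)) = f (v + (i + 1 : ℕ))
      rw [hx.step, Nat.cast_succ, add_assoc]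
  have hYG : ∀ (i : ℕ) v, (Y ^ i) • G' v = G' (v + i) := by
    intro i
    induction i with
    | zero => intro v; simp
    | succ i ih =>
      intro v
      rw [pow_succ', mul_smul, ih]
      apply Subtype.ext
      show y (g (v + i)) = g (v + (i + 1 : ℕ))
      rw [hy.step, Nat.cast_succ, add_assoc]
  haveI : NeZero r := ⟨(Fact.out : r.Prime).ne_zero⟩
  haveI : NeZero s := ⟨(Fact.out : s.Prime).ne_zero⟩
  let o : U := ⟨a₀, Or.inl ⟨v₀, hv₀⟩⟩
  have hoF : o = F v₀ := Subtype.ext hv₀.symm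
  have hoG : o = G' u₀ := Subtype.ext hu₀.symm
  have hreach : ∀ p : U, ∃ k : K, k • o = p := by
    rintro ⟨p, ⟨v, rfl⟩ | ⟨v, rfl⟩⟩
    · exact ⟨X ^ (v - v₀).val, by rw [hoF, hXF, ZMod.natCast_zmod_val, add_sub_cancel]⟩
    · exact ⟨Y ^ (v - u₀).val, by rw [hoG, hYG, ZMod.natCast_zmod_val, add_sub_cancel]⟩
  have htrans : IsPretransitive K U := ⟨fun p q => by
    obtain ⟨k, hk⟩ := hreach p
    obtain ⟨l, hl⟩ := hreach q
    exact ⟨l * k⁻¹, by rw [← hk, mul_smul, inv_smul_smul, hl]⟩⟩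
  have hcyc : IsCyc (X : Perm U) ⟨F, fun v w e => f.injective (congrArg Subtype.val e)⟩ :=
    ⟨fun v => Subtype.ext (hx.step v), fun p hp => Subtype.ext (hx.fixed p.1 fun ⟨v, hv⟩ => hp ⟨v, Subtype.ext hv⟩)⟩
  have hcyc' : IsCyc (Y : Perm U) ⟨G', fun v w e => g.injective (congrArg Subtype.val e)⟩ :=
    ⟨fun v => Subtype.ext (hy.step v), fun p hp => Subtype.ext (hy.fixed p.1 fun ⟨v, hv⟩ => hp ⟨v, Subtype.ext hv⟩)⟩
  have hprim : IsPreprimitive K U := by
    refine ⟨fun {B} hB => ?_⟩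
    by_contra htriv
    obtain ⟨hns, hnu⟩ := not_or.1 htriv
    obtain ⟨b₁, hb₁, b₂, hb₂, hne⟩ := Set.not_subsingleton_iff.1 hns
    let R : U → U → Prop := fun p q => ∃ k : K, p ∈ k • B ∧ q ∈ k • B
    have hmove : ∀ p q : U, ∀ k : K, p ∈ k • B → R p q → q ∈ k • B := by
      rintro p q k hk ⟨l, hl, hql⟩
      rcases hB.smul_eq_smul_or_disjoint k l with e | e
      · rw [e]; exact hql
      · exact absurd hl (Set.disjoint_left.1 e hk)
    have hBmem : ∀ p : U, ∃ k : K, p ∈ k • B := fun p => by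
      obtain ⟨k, hk⟩ := MulAction.exists_smul_eq K b₁ p
      exact ⟨k, hk ▸ Set.smul_mem_smul_set hb₁⟩
    have hReq : Equivalence R :=
      ⟨fun p => by obtain ⟨k, hk⟩ := hBmem p; exact ⟨k, hk, hk⟩,
        fun ⟨k, h1, h2⟩ => ⟨k, h2, h1⟩,
        fun {p q w} ⟨k, h1, h2⟩ h => ⟨k, h1, hmove q w k h2 h⟩⟩
    have hinv : ∀ (k : K) (p q : U), R p q → R (k • p) (k • q) := fun k p q ⟨l, h1, h2⟩ =>
      ⟨k * l, by rw [mul_smul]; exact Set.smul_mem_smul_set h1, by rw [mul_smul]; exact Set.smul_mem_smul_set h2⟩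
    obtain ⟨w, hw, hRw⟩ : ∃ w, w ≠ o ∧ R o w := by
      obtain ⟨k, hk⟩ := MulAction.exists_smul_eq K b₁ o
      exact ⟨k • b₂, fun e => hne (MulAction.injective k (hk.trans e.symm)),
        k, hk ▸ Set.smul_mem_smul_set hb₁, Set.smul_mem_smul_set hb₂⟩
    have hall : ∀ p : U, R o p := by
      rintro ⟨p, ⟨v, rfl⟩ | ⟨v, rfl⟩⟩
      · rw [hoF] at hw hRw ⊢
        exact hcyc.absorb hReq (fun a b h => hinv X a b h) hw hRw v
      · rw [hoG] at hw hRw ⊢
        exact hcyc'.absorb hReq (fun a b h => hinv Y a b h) hw hRw v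
    apply hnu
    refine Set.eq_univ_of_forall fun p => ?_
    have h1 : b₁ ∈ (1 : K) • B := by rw [one_smul]; exact hb₁
    have := hmove b₁ p 1 h1 (hReq.trans (hReq.symm (hall b₁)) (hall p))
    rwa [one_smul] at this
  set S : Set U := Set.range F with hS
  obtain ⟨n, hn⟩ : ∃ n, Sᶜ.ncard = n + 1 := by
    refine Nat.exists_eq_succ_of_ne_zero fun h0 => hsub ?_
    rw [Set.ncard_eq_zero, Set.compl_empty_iff] at h0
    rintro b ⟨v, rfl⟩
    have : G' v ∈ S := h0 ▸ Set.mem_univ _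
    obtain ⟨w, hw⟩ := this
    exact ⟨w, congrArg Subtype.val hw⟩
  have hcardS : S.ncard = r := by
    rw [← Nat.card_coe_set_eq, Nat.card_range_of_injective (fun v w e => f.injective (congrArg Subtype.val e)),
      Nat.card_zmod]
  have hn' : n + 2 < Nat.card U := by
    have := Set.ncard_add_ncard_compl S
    omega
  have htS : IsPretransitive (fixingSubgroup K Sᶜ) (SubMulAction.ofFixingSubgroup K Sᶜ) := by
    have hX : X ∈ fixingSubgroup K Sᶜ := by
      rw [mem_fixingSubgroup_iff]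
      intro p hp
      exact hcyc.fixed p hp
    have key : ∀ p : SubMulAction.ofFixingSubgroup K Sᶜ, ∃ v, (p : U) = F v := fun p => by
      have := (SubMulAction.mem_ofFixingSubgroup_iff K).1 p.2
      obtain ⟨v, hv⟩ := not_not.1 this
      exact ⟨v, hv.symm⟩
    refine ⟨fun p q => ?_⟩
    obtain ⟨v, hv⟩ := key p
    obtain ⟨w, hw⟩ := key q
    refine ⟨(⟨X, hX⟩ : fixingSubgroup K Sᶜ) ^ (w - v).val, Subtype.ext ?_⟩
    show (X ^ (w - v).val) • (p : U) = q
    rw [hv, hw, hXF, ZMod.natCast_zmod_val, add_sub_cancel]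
  have h2t := hprim.is_two_pretransitive hn hn' htS
  obtain ⟨p, q, hpq⟩ : ∃ p q : U, p ≠ q :=
    ⟨F v₀, F (v₀ + 1), fun e => one_ne_zero (left_eq_add.1 (f.injective (congrArg Subtype.val e)))⟩
  obtain ⟨k, hk1, hk2⟩ := (is_two_pretransitive_iff).1 h2t hpq hpq.symm
  obtain ⟨m, hm⟩ := exists_odd_pow k (Odd.of_dvd_nat hKodd (orderOf_dvd_natCard k))
  apply hpq
  have hfix : k ^ 2 ∈ stabilizer K p := by
    rw [mem_stabilizer_iff, pow_two, mul_smul, hk1, hk2]
  have := pow_mem hfix m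
  rw [hm, mem_stabilizer_iff, hk1] at this
  exact this.symm

/-- No odd-order subgroup can be Hall for two primes. -/
theorem two_mem {π : Set ℕ} {H : Subgroup (Perm α)} (hH : HallA π H)
    (h2 : ∃ r s : ℕ, r.Prime ∧ s.Prime ∧ r ≠ s ∧ r ∈ π ∧ s ∈ π ∧ r ≤ Fintype.card α ∧ s ≤ Fintype.card α) :
    2 ∈ π := by
  by_contra h2π
  obtain ⟨r, s, hr, hs, hne, hrπ, hsπ, hrn, hsn⟩ := h2
  wlog hlt : r < s generalizing r s
  · exact this s r hs hr hne.symm hsπ hrπ hsn hrn (by omega)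
  haveI := Fact.mk hr
  haveI := Fact.mk hs
  haveI : NeZero r := ⟨hr.ne_zero⟩
  have hro : Odd r := hr.odd_of_ne_two fun e => h2π (e ▸ hrπ)
  have hso : Odd s := hs.odd_of_ne_two fun e => h2π (e ▸ hsπ)
  have hodd : Odd (Nat.card H) := by
    rw [← Nat.not_even_iff_odd, even_iff_two_dvd]
    exact fun h => h2π (hH.1 2 Nat.prime_two h)
  obtain ⟨e, he⟩ := hH.exists_cycles hr hro hrπ
  obtain ⟨e', he'⟩ := hH.exists_cycles hs hso hsπ
  have hk : 0 < Fintype.card α / s := Nat.div_pos hsn hs.pos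
  obtain ⟨y, hyH, hy⟩ := he' ⟨0, hk⟩
  have hdisj : ∀ z w, e z ≠ e' (⟨0, hk⟩, w) := by
    rintro ⟨i, v⟩ w heq
    obtain ⟨x, hxH, hx⟩ := he i
    have hsub := cycles_apart hodd hxH hyH hx hy ⟨_, ⟨v, rfl⟩, ⟨w, heq.symm⟩⟩ hr.two_le
    have := Set.ncard_le_ncard hsub (Set.toFinite _)
    rw [← Nat.card_coe_set_eq, ← Nat.card_coe_set_eq, Nat.card_range_of_injective (Function.Embedding.injective _),
      Nat.card_range_of_injective (Function.Embedding.injective _), Nat.card_zmod, Nat.card_zmod] at this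
    omega
  haveI : NeZero s := ⟨hs.ne_zero⟩
  let F : (Fin (Fintype.card α / r) × ZMod r) ⊕ ZMod s → α := Sum.elim e fun w => e' (⟨0, hk⟩, w)
  have hF : Function.Injective F := e.injective.sumElim
    (fun a b h => (Prod.mk.injEq _ _ _ _ ▸ e'.injective h).2) hdisj
  have := Fintype.card_le_of_injective F hF
  rw [Fintype.card_sum, Fintype.card_prod, Fintype.card_fin, ZMod.card, ZMod.card] at this
  have hm := Nat.mod_lt (Fintype.card α) hr.pos
  have := Nat.div_add_mod (Fintype.card α) r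
  rw [mul_comm] at this
  omega

end Cfsg.Agent.HallSym
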