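import Mathlib

/-!
Stabilisers of partitions, given as fibres of a map.
-/

set_option autoImplicit false

namespace Cfsg.Agent.HallSym

open Equiv
open scoped Nat

variable {α ι : Type*}

/-- The stabiliser of the partition into fibres of `f`. -/
def part (f : α → ι) : Subgroup (Perm α) where
  carrier := {g | ∀ x y, f (g x) = f (g y) ↔ f x = f y}
  one_mem' := fun _ _ => Iff.rfl
  mul_mem' := fun {g h} hg hh x y => (hg (h x) (h y)).trans (hh x y)
  inv_mem' := fun {g} hg x y => by
    have h := hg (g⁻¹ x) (g⁻¹ y)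
    simp at h
    exact h.symm

theorem mem_part {f : α → ι} {g : Perm α} : g ∈ part f ↔ ∀ x y, f (g x) = f (g y) ↔ f x = f y :=
  Iff.rfl

/-- The permutations fixing each fibre. -/
def fib (f : α → ι) : Subgroup (Perm α) where
  carrier := {g | ∀ x, f (g x) = f x}
  one_mem' := fun _ => rfl
  mul_mem' := fun {g h} hg hh x => (hg (h x)).trans (hh x)
  inv_mem' := fun {g} hg x => by
    have h := hg (g⁻¹ x)
    simp at h
    exact h.symm

theorem fib_le_part (f : α → ι) : fib f ≤ part f := fun g hg x y => by rw [hg x, hg y]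

theorem swap_mem_fib [DecidableEq α] {f : α → ι} {a b : α} (h : f a = f b) : Equiv.swap a b ∈ fib f := by
  intro x
  by_cases ha : x = a
  · rw [ha, Equiv.swap_apply_left, h]
  by_cases hb : x = b
  · rw [hb, Equiv.swap_apply_right, h]
  rw [Equiv.swap_apply_of_ne_of_ne ha hb]

variable [Fintype α] [Fintype ι]

/-- Fibre sizes. -/
noncomputable def sz (f : α → ι) (i : ι) : ℕ := Nat.card {a // f a = i}

/-- The bound on the order of a partition stabiliser. -/
noncomputable def partBound (f : α → ι) : ℕ :=
  (∏ i, (sz f i)!) * ∏ s ∈ (Finset.univ.image (sz f)), (Nat.card {i // sz f i = s})!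

theorem card_fib (f : α → ι) : Nat.card (fib f) = ∏ i, (sz f i)! := by
  classical
  rw [Nat.card_congr (show fib f ≃ {g : Perm α // f ∘ g = f} from
    Equiv.subtypeEquivRight fun g => ⟨fun h => funext h, fun h x => congrFun h x⟩),
    Nat.card_eq_fintype_card, DomMulAct.stabilizer_card]
  exact Finset.prod_congr rfl fun i _ => by rw [sz, Nat.card_eq_fintype_card]

theorem sum_sz (f : α → ι) : ∑ i, sz f i = Fintype.card α := by
  classical
  simp only [sz, Nat.card_eq_fintype_card]
  rw [← Fintype.card_sigma]
  exact Fintype.card_congr (Equiv.sigmaFiberEquiv f)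

theorem card_part_dvd {f : α → ι} (hf : Function.Surjective f) : Nat.card (part f) ∣ partBound f := by
  classical
  choose sec hsec using hf
  have hfg : ∀ g ∈ part f, ∀ x, f (g x) = f (g (sec (f x))) := fun g hg x =>
    (hg _ _).2 (hsec _).symm
  have hbij : ∀ g : part f, Function.Bijective fun i => f ((g : Perm α) (sec i)) := fun g =>
    Finite.injective_iff_bijective.1 fun i j e => by
      have := (g.2 _ _).1 e
      rwa [hsec, hsec] at this
  let ψ : part f →* Perm ι :=
    { toFun := fun g => Equiv.ofBijective _ (hbij g)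
      map_one' := Equiv.ext fun i => hsec i
      map_mul' := fun g h => Equiv.ext fun i => hfg _ g.2 ((h : Perm α) (sec i)) }
  have hψ : ∀ (g : part f) (i : ι), ψ g i = f ((g : Perm α) (sec i)) := fun _ _ => rfl
  have hker : ψ.ker.map (part f).subtype ≤ fib f := by
    rintro _ ⟨g, hg, rfl⟩ x
    have hg' : ψ g = 1 := hg
    show f ((g : Perm α) x) = f x
    rw [hfg _ g.2 x, ← hψ, hg']; rfl
  let S : Subgroup (Perm ι) := fib (sz f)
  have hrange : ψ.range ≤ S := by
    rintro _ ⟨g, rfl⟩ i
    show sz f (ψ g i) = sz f i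
    refine Nat.card_congr (((g : Perm α).subtypeEquiv fun a => ?_).symm)
    rw [hψ]
    constructor
    · intro ha; exact (g.2 _ _).2 (by rw [hsec, ha])
    · intro ha; rw [(g.2 _ _).1 ha, hsec]
  rw [← ψ.ker.card_mul_index, Subgroup.index_ker, partBound]
  refine Nat.mul_dvd_mul ?_ ?_
  · rw [← card_fib, ← Subgroup.card_map_of_injective (part f).subtype_injective]
    exact Subgroup.card_dvd_of_le hker
  · refine (Subgroup.card_dvd_of_le hrange).trans (dvd_of_eq ?_)
    rw [Nat.card_congr (show S ≃ {g : Perm ι // sz f ∘ g = sz f} from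
      Equiv.subtypeEquivRight fun g => ⟨fun h => funext h, fun h x => congrFun h x⟩),
      Nat.card_eq_fintype_card, DomMulAct.stabilizer_card']
    exact Finset.prod_congr rfl fun s _ => by rw [Nat.card_eq_fintype_card]

/-- A set and its complement. -/
def ind [DecidableEq α] (T : Finset α) (a : α) : Bool := decide (a ∈ T)

theorem sz_ind [DecidableEq α] (T : Finset α) :
    sz (ind T) true = T.card ∧ sz (ind T) false = Fintype.card α - T.card := by
  constructor
  · rw [sz, Nat.card_congr (Equiv.subtypeEquivRight (q := fun a => a ∈ T) fun a => by simp [ind]),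
      Nat.card_eq_fintype_card, Fintype.card_coe]
  · rw [sz, Nat.card_congr (Equiv.subtypeEquivRight (q := fun a => a ∉ T) fun a => by simp [ind]),
      Nat.card_eq_fintype_card, Fintype.card_subtype_compl, Fintype.card_coe]

theorem ind_surjective [DecidableEq α] {T : Finset α} (h1 : 0 < T.card)
    (h2 : T.card < Fintype.card α) : Function.Surjective (ind T) := by
  intro b
  cases b
  · obtain ⟨a, -, ha⟩ := Finset.exists_mem_notMem_of_card_lt_card (s := T) (t := Finset.univ) h2
    exact ⟨a, by simp [ind, ha]⟩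
  · obtain ⟨a, ha⟩ := Finset.card_pos.1 h1
    exact ⟨a, by simp [ind, ha]⟩

theorem card_part_ind [DecidableEq α] {T : Finset α} {c b : ℕ} (hc : T.card = c) (hn : Fintype.card α = c + b)
    (hc0 : 0 < c) (hb0 : 0 < b) :
    Nat.card (part (ind T)) = c ! * b ! * (if c = b then 2 else 1) := by
  obtain ⟨h1, h2⟩ := sz_ind T
  rw [hc] at h1
  rw [hn, hc, Nat.add_sub_cancel_left] at h2
  have hfib : Nat.card (fib (ind T)) = c ! * b ! := by rw [card_fib, Fintype.prod_bool, h1, h2]
  have hle := Subgroup.card_dvd_of_le (fib_le_part (ind T))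
  rw [hfib] at hle
  have hdvd := card_part_dvd (ind_surjective (T := T) (by omega) (by omega))
  rw [partBound, Fintype.prod_bool, h1, h2, Fintype.univ_bool, Finset.image_insert, Finset.image_singleton,
    h1, h2] at hdvd
  by_cases hcb : c = b
  · subst hcb
    rw [if_pos rfl]
    have e : Nat.card {i // sz (ind T) i = c} = 2 := by
      rw [Nat.card_congr (Equiv.subtypeUnivEquiv fun i => by cases i <;> assumption),
        Nat.card_eq_fintype_card, Fintype.card_bool]
    rw [Finset.insert_eq_of_mem (Finset.mem_singleton_self _), Finset.prod_singleton, e,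
      Nat.factorial_two] at hdvd
    refine Nat.dvd_antisymm hdvd ?_
    obtain ⟨q, hq⟩ := hle
    rcases Nat.even_or_odd q with he | ho
    · obtain ⟨r, rfl⟩ := he; exact ⟨r, by rw [hq]; ring⟩
    exfalso
    obtain ⟨r, hr⟩ := hdvd
    have hq1 : q * r = 2 := Nat.eq_of_mul_eq_mul_left (show 0 < c ! * c ! from by positivity)
      (by rw [← mul_assoc, ← hq]; exact hr.symm)
    obtain rfl : q = 1 := by
      have : q ∣ 2 := ⟨r, hq1.symm⟩
      rcases (Nat.dvd_prime Nat.prime_two).1 this with h | h
      · exact h
      · subst h; exact absurd ho (by decide)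
    -- an element exchanging the two parts
    let e₁ : {a // a ∈ T} ≃ {a // a ∉ T} := Fintype.equivOfCardEq (by
      rw [Fintype.card_coe, Fintype.card_subtype_compl, Fintype.card_coe, hn, hc]; omega)
    let g : Perm α := (Equiv.sumCompl (· ∈ T)).symm.trans
      ((Equiv.sumCongr e₁ e₁.symm).trans ((Equiv.sumComm _ _).trans (Equiv.sumCompl (· ∈ T))))
    have hg : ∀ a, ind T (g a) = !ind T a := by
      intro a
      by_cases ha : a ∈ T
      · simp [g, ind, Equiv.sumCompl_symm_apply_of_pos ha, ha, (e₁ ⟨a, ha⟩).2]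
      · simp [g, ind, Equiv.sumCompl_symm_apply_of_neg ha, ha, (e₁.symm ⟨a, ha⟩).2]
    have hmem : g ∈ part (ind T) := fun x y => by rw [hg, hg, Bool.not_inj_iff]
    have heq : fib (ind T) = part (ind T) :=
      Subgroup.eq_of_le_of_card_ge (fib_le_part _) (by rw [hfib, hq, mul_one])
    rw [← heq] at hmem
    obtain ⟨a, ha⟩ := Finset.card_pos.1 (show 0 < T.card by omega)
    have := hmem a
    rw [hg] at this
    cases h' : ind T a <;> simp [h'] at this
  · rw [if_neg hcb, mul_one]
    refine Nat.dvd_antisymm ?_ hle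
    have e1 : ∀ s, Nat.card {i // sz (ind T) i = s} ≤ 1 ∨ False := fun s => Or.inl (by
      rw [Finite.card_le_one_iff_subsingleton]
      refine ⟨fun ⟨i, hi⟩ ⟨j, hj⟩ => Subtype.ext ?_⟩
      cases i <;> cases j <;> first | rfl | (exfalso; omega))
    refine hdvd.trans (dvd_of_eq ?_)
    rw [Finset.prod_eq_one (fun s _ => Nat.factorial_eq_one.2 ((e1 s).resolve_right id)), mul_one]

end Cfsg.Agent.HallSym
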