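import Cfsg.Agent.KnownSimple58.HallSym.Cycles

/-!
Three-cycles and Klein groups in subgroups of index prime to two and another prime.
-/

set_option autoImplicit false

namespace Cfsg.Agent.HallSym

open Equiv

variable {α : Type*} [Fintype α] [DecidableEq α]

/-- The cycle `a → b → c → a`. -/
def tri (a b c : α) : Perm α := Equiv.swap a b * Equiv.swap b c

theorem tri_spec {a b c : α} (hab : a ≠ b) (hbc : b ≠ c) (hac : a ≠ c) :
    tri a b c a = b ∧ tri a b c b = c ∧ tri a b c c = a ∧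
      ∀ x, x ≠ a → x ≠ b → x ≠ c → tri a b c x = x := by
  refine ⟨?_, ?_, ?_, fun x h1 h2 h3 => ?_⟩ <;>
    simp [tri, Equiv.swap_apply_def, hab, hbc, hac, hab.symm, hbc.symm, hac.symm, *]

theorem tri_rot {a b c : α} (hab : a ≠ b) (hbc : b ≠ c) (hac : a ≠ c) : tri a b c = tri b c a := by
  obtain ⟨h1, h2, h3, h4⟩ := tri_spec hab hbc hac
  obtain ⟨g1, g2, g3, g4⟩ := tri_spec hbc hac.symm hab.symm
  refine Equiv.ext fun x => ?_
  by_cases e1 : x = a
  · subst e1; rw [h1, g3]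
  by_cases e2 : x = b
  · subst e2; rw [h2, g1]
  by_cases e3 : x = c
  · subst e3; rw [h3, g2]
  rw [h4 x e1 e2 e3, g4 x e2 e3 e1]

theorem tri_inv {a b c : α} : (tri a b c)⁻¹ = tri c b a := by
  simp [tri, Equiv.swap_comm]

theorem tri_conj (g : Perm α) (a b c : α) : g * tri a b c * g⁻¹ = tri (g a) (g b) (g c) := by
  simp only [tri]
  rw [Equiv.swap_apply_apply, Equiv.swap_apply_apply]
  group

/-- The three-cycle through distinct `a, b, c` lies in `H`. -/
structure Tri (H : Subgroup (Perm α)) (a b c : α) : Prop where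
  ab : a ≠ b
  bc : b ≠ c
  ac : a ≠ c
  mem : tri a b c ∈ H

variable {H : Subgroup (Perm α)} {a b c : α}

theorem Tri.rot (h : Tri H a b c) : Tri H b c a :=
  ⟨h.bc, h.ac.symm, h.ab.symm, tri_rot h.ab h.bc h.ac ▸ h.mem⟩

theorem Tri.rev (h : Tri H a b c) : Tri H c b a :=
  ⟨h.bc.symm, h.ab.symm, h.ac.symm, tri_inv (a := a) ▸ inv_mem h.mem⟩

theorem Tri.conj (h : Tri H a b c) {g : Perm α} (hg : g ∈ H) : Tri H (g a) (g b) (g c) :=
  ⟨g.injective.ne h.ab, g.injective.ne h.bc, g.injective.ne h.ac,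
    tri_conj g a b c ▸ mul_mem (mul_mem hg h.mem) (inv_mem hg)⟩

/-- Two points lie in a common three-cycle of `H`. -/
def Rel (H : Subgroup (Perm α)) (a b : α) : Prop := a = b ∨ ∃ c, Tri H a b c

theorem rel_equiv (H : Subgroup (Perm α)) : Equivalence (Rel H) := by
  have hsymm : ∀ {a b : α}, Rel H a b → Rel H b a := by
    rintro a b (rfl | ⟨c, h⟩)
    · exact Or.inl rfl
    · exact Or.inr ⟨c, h.rev.rot⟩
  refine ⟨fun a => Or.inl rfl, hsymm, ?_⟩
  rintro a b d (rfl | ⟨c, h⟩) h'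
  · exact h'
  rcases h' with rfl | ⟨e, h'⟩
  · exact Or.inr ⟨c, h⟩
  by_cases hda : d = a
  · exact Or.inl hda.symm
  by_cases hdc : d = c
  · exact Or.inr ⟨b, hdc ▸ h.rev.rot.rot⟩
  obtain ⟨-, h2, -, h4⟩ := tri_spec h.rev.ab h.rev.bc h.rev.ac
  have := h'.conj h.rev.mem
  rw [h2, h4 d hdc h'.ab.symm hda] at this
  exact Or.inr ⟨_, this⟩

theorem Rel.conj (h : Rel H a b) {g : Perm α} (hg : g ∈ H) : Rel H (g a) (g b) := by
  rcases h with rfl | ⟨c, h⟩
  · exact Or.inl rfl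
  · exact Or.inr ⟨_, h.conj hg⟩

theorem rel_iff {g : Perm α} (hg : g ∈ H) (a b : α) : Rel H (g a) (g b) ↔ Rel H a b := by
  refine ⟨fun h => ?_, fun h => h.conj hg⟩
  have := h.conj (inv_mem hg)
  simpa using this

/-- All three-cycles inside a class are present. -/
theorem tri_of_rel (h1 : Rel H a b) (h2 : Rel H a c) (hab : a ≠ b) (hbc : b ≠ c) (hac : a ≠ c) :
    Tri H a b c := by
  obtain ⟨x, hx⟩ := h1.resolve_left hab
  by_cases hxc : x = c
  · exact hxc ▸ hx
  have hxa : Rel H x a := Or.inr ⟨b, hx.rot.rot⟩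
  obtain ⟨w, hw⟩ := ((rel_equiv H).trans hxa h2).resolve_left hxc
  obtain ⟨h1', -, -, h4'⟩ := tri_spec hw.ab hw.bc hw.ac
  by_cases hwa : w = a
  · subst hwa
    obtain ⟨u1, -, u3, u4⟩ := tri_spec hx.ab hx.bc hx.ac
    have := hw.conj hx.mem
    rw [u3, u1, u4 c hac.symm hbc.symm (Ne.symm hxc)] at this
    exact this.rev.rot.rot
  by_cases hwb : w = b
  · subst hwb
    obtain ⟨v1, v2, v3, v4⟩ := tri_spec hw.rev.ab hw.rev.bc hw.rev.ac
    have := hx.conj hw.rev.mem
    rw [v1, v3, v4 a hab hac hx.ac] at this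
    exact this.rev.rot.rot
  have := hx.conj hw.mem
  rw [h1', h4' a hx.ac hac (Ne.symm hwa), h4' b hx.bc hbc (Ne.symm hwb)] at this
  exact this

/-- The alternating group of a class. -/
theorem ofSubtype_mem {a₀ : α} [DecidablePred (Rel H a₀)]
    (σ : Perm {x // Rel H a₀ x}) (hσ : σ ∈ alternatingGroup {x // Rel H a₀ x}) :
    Perm.ofSubtype σ ∈ H := by
  suffices alternatingGroup {x // Rel H a₀ x} ≤ H.comap Perm.ofSubtype from this hσ
  rw [← Equiv.Perm.closure_three_cycles_eq_alternating, Subgroup.closure_le]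
  intro σ hσ
  show Perm.ofSubtype σ ∈ H
  have hσ3 : σ ^ 3 = 1 := by
    rw [← hσ.orderOf]; exact pow_orderOf_eq_one σ
  obtain ⟨u, hu⟩ : σ.support.Nonempty := Finset.card_pos.1 (by rw [hσ.card_support]; norm_num)
  set v := σ u with hv
  set w := σ v with hw
  have hu' : σ u ≠ u := Perm.mem_support.1 hu
  have hwu : σ w = u := by
    have := Equiv.congr_fun hσ3 u
    simpa [pow_succ] using this
  have huv : u ≠ v := fun e => hu' e.symm
  have hvw : v ≠ w := fun e => huv (σ.injective (hv.symm.trans (e.trans hw)))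
  have huw : u ≠ w := fun e => by
    rw [← e] at hwu; exact huv (hwu.symm.trans hv.symm)
  have hsupp : σ.support = {u, v, w} := by
    refine (Finset.eq_of_subset_of_card_le (fun z hz => ?_) ?_).symm
    · simp only [Finset.mem_insert, Finset.mem_singleton] at hz
      rcases hz with rfl | rfl | rfl
      · exact hu
      · exact Perm.mem_support.2 fun e => hvw (e.symm.trans hw.symm)
      · exact Perm.mem_support.2 fun e => huw (hwu.symm.trans e)
    · rw [hσ.card_support]; simp [huv, hvw, huw]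
  have hT : Tri H (u : α) v w := tri_of_rel
    ((rel_equiv H).trans ((rel_equiv H).symm u.2) v.2) ((rel_equiv H).trans ((rel_equiv H).symm u.2) w.2)
    (fun e => huv (Subtype.ext e)) (fun e => hvw (Subtype.ext e)) (fun e => huw (Subtype.ext e))
  obtain ⟨t1, t2, t3, t4⟩ := tri_spec hT.ab hT.bc hT.ac
  convert hT.mem using 1
  refine Equiv.ext fun x => ?_
  by_cases hx : Rel H a₀ x
  · rw [Perm.ofSubtype_apply_of_mem σ hx]
    by_cases e1 : (⟨x, hx⟩ : {x // Rel H a₀ x}) = u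
    · rw [e1, ← hv, show x = u from congrArg Subtype.val e1, t1]
    by_cases e2 : (⟨x, hx⟩ : {x // Rel H a₀ x}) = v
    · rw [e2, ← hw, show x = v from congrArg Subtype.val e2, t2]
    by_cases e3 : (⟨x, hx⟩ : {x // Rel H a₀ x}) = w
    · rw [e3, hwu, show x = w from congrArg Subtype.val e3, t3]
    rw [t4 x (fun e => e1 (Subtype.ext e)) (fun e => e2 (Subtype.ext e)) (fun e => e3 (Subtype.ext e))]
    have : (⟨x, hx⟩ : {x // Rel H a₀ x}) ∉ σ.support := by rw [hsupp]; simp [e1, e2, e3]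
    rw [Perm.notMem_support.1 this]
  · rw [Perm.ofSubtype_apply_of_not_mem σ hx, t4 x (fun e => hx (e ▸ u.2)) (fun e => hx (e ▸ v.2))
      (fun e => hx (e ▸ w.2))]

/-- Cycles of length three give related points. -/
theorem IsCyc.tri {x : Perm α} {f : ZMod 3 ↪ α} (hx : IsCyc x f) (hxH : x ∈ H) (v : ZMod 3) :
    Tri H (f v) (f (v + 1)) (f (v + 2)) := by
  have hd : ∀ v : ZMod 3, v ≠ v + 1 ∧ v + 1 ≠ v + 2 ∧ v ≠ v + 2 ∧ v + 1 + 1 = v + 2 ∧ v + 2 + 1 = v ∧
      ∀ w, w = v ∨ w = v + 1 ∨ w = v + 2 := by decide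
  obtain ⟨d1, d2, d3, d4, d5, d6⟩ := hd v
  refine ⟨f.injective.ne d1, f.injective.ne d2, f.injective.ne d3, ?_⟩
  obtain ⟨t1, t2, t3, t4⟩ := tri_spec (f.injective.ne d1) (f.injective.ne d2) (f.injective.ne d3)
  convert hxH using 1
  refine Equiv.ext fun a => ?_
  by_cases h : a ∈ Set.range f
  · obtain ⟨w, rfl⟩ := h
    rw [hx.step]
    rcases d6 w with rfl | rfl | rfl
    · rw [t1]
    · rw [t2, d4]
    · rw [t3, d5]
  · rw [hx.fixed a h, t4 a (fun e => h ⟨_, e.symm⟩) (fun e => h ⟨_, e.symm⟩) (fun e => h ⟨_, e.symm⟩)]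

theorem mul_two : ∀ w : ZMod 2 × ZMod 2, w + w = 0 := by decide

theorem sign_addLeft : ∀ w : ZMod 2 × ZMod 2, Perm.sign (Equiv.addLeft w) = 1 := by decide

theorem tr_even_klein {k : ℕ} (e : Fin k × (ZMod 2 × ZMod 2) ↪ α)
    (z : Fin k → Multiplicative (ZMod 2 × ZMod 2)) : tr e z ∈ alternatingGroup α := by
  classical
  rw [Equiv.Perm.mem_alternatingGroup]
  show Perm.sign (Perm.viaEmbedding (Equiv.prodCongrRight fun i => Equiv.addLeft (Multiplicative.toAdd (z i))) e) = 1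
  rw [Perm.viaEmbedding]
  refine (@Equiv.Perm.sign_extendDomain _ _ _ _ _ _ _ _ (Classical.decPred _) (Equiv.ofInjective e.1 e.2)).trans ?_
  show Perm.sign (Equiv.prodCongrRight fun i => Equiv.addLeft (Multiplicative.toAdd (z i))) = 1
  rw [Perm.sign_prodCongrRight]
  exact Finset.prod_eq_one fun i _ => sign_addLeft _

/-- A Klein group moving four points. -/
def IsQuad (H : Subgroup (Perm α)) (Q : ZMod 2 × ZMod 2 ↪ α) : Prop :=
  ∀ w, ∃ x ∈ H, (∀ v, x (Q v) = Q (w + v)) ∧ ∀ a, a ∉ Set.range Q → x a = a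

theorem IsQuad.conj {Q : ZMod 2 × ZMod 2 ↪ α} (hQ : IsQuad H Q) {g : Perm α} (hg : g ∈ H) :
    IsQuad H (Q.trans g.toEmbedding) := by
  intro w
  obtain ⟨x, hx, h1, h2⟩ := hQ w
  refine ⟨g * x * g⁻¹, mul_mem (mul_mem hg hx) (inv_mem hg), fun v => ?_, fun a ha => ?_⟩
  · show g (x (g⁻¹ (g (Q v)))) = g (Q (w + v))
    rw [Perm.inv_def, Equiv.symm_apply_apply, h1]
  · show g (x (g⁻¹ a)) = a
    rw [h2 _ fun ⟨v, hv⟩ => ha ⟨v, show g (Q v) = a by rw [hv]; simp⟩]
    simp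

theorem IsQuad.range_eq (h3 : ¬ 3 ∣ Nat.card H) {P Q : ZMod 2 × ZMod 2 ↪ α} (hP : IsQuad H P)
    (hQ : IsQuad H Q) {a : α} (haP : a ∈ Set.range P) (haQ : a ∈ Set.range Q) :
    Set.range P = Set.range Q := by
  by_contra hne
  have hcard : ∀ E : ZMod 2 × ZMod 2 ↪ α, (Set.range E).ncard = 4 := fun E => by
    rw [← Nat.card_coe_set_eq, Nat.card_range_of_injective E.injective, Nat.card_prod, Nat.card_zmod]
  obtain ⟨b, hbP, hbQ⟩ := Set.not_subset.1 fun h =>
    hne (Set.eq_of_subset_of_ncard_le h (by rw [hcard, hcard]) (Set.toFinite _))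
  obtain ⟨e, heQ, heP⟩ := Set.not_subset.1 fun h =>
    hne (Set.eq_of_subset_of_ncard_le h (by rw [hcard, hcard]) (Set.toFinite _)).symm
  obtain ⟨va, rfl⟩ := haP
  obtain ⟨vb, rfl⟩ := hbP
  obtain ⟨ua, hua⟩ := haQ
  obtain ⟨ue, rfl⟩ := heQ
  obtain ⟨t, ht, t1, t2⟩ := hP (vb - va)
  obtain ⟨s, hs, s1, s2⟩ := hQ (ue - ua)
  have hab : t (P va) = P vb := by rw [t1, sub_add_cancel]
  have hba : t (P vb) = P va := by
    rw [t1]
    have := mul_two (vb - va)
    rw [show vb - va + vb = (vb - va) + (vb - va) + va by abel, this, zero_add]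
  have hae : s (P va) = Q ue := by rw [← hua, s1, sub_add_cancel]
  have hea : s (Q ue) = P va := by
    rw [s1, ← hua]
    have := mul_two (ue - ua)
    rw [show ue - ua + ue = (ue - ua) + (ue - ua) + ua by abel, this, zero_add]
  have e1 : (t * s) (Q ue) = P vb := by rw [Perm.mul_apply, hea, hab]
  have e2 : (t * s) (P vb) = P va := by rw [Perm.mul_apply, s2 _ hbQ, hba]
  have e3 : (t * s) (P va) = Q ue := by rw [Perm.mul_apply, hae, t2 _ heP]
  have hne' : (t * s) (Q ue) ≠ Q ue := by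
    rw [e1]; exact fun h => hbQ ⟨ue, h.symm⟩
  exact h3 ((three_dvd_orderOf hne' (by rw [e1, e2, e3])).trans (by
    rw [← Subgroup.orderOf_mk (t * s) (mul_mem ht hs)]
    exact orderOf_dvd_natCard _))

theorem three_mem {π : Set ℕ} (hH : HallA π H) (h2 : 2 ∈ π)
    (hr : ∃ r : ℕ, r.Prime ∧ r ≠ 2 ∧ r ∈ π ∧ r ≤ Fintype.card α) : 3 ∈ π := by
  by_contra h3π
  obtain ⟨r, hrp, hr2, hrπ, hrn⟩ := hr
  haveI := Fact.mk hrp
  haveI : NeZero r := ⟨hrp.ne_zero⟩
  have h3 : ¬ 3 ∣ Nat.card H := fun h => h3π (hH.1 3 Nat.prime_three h)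
  have hr5 : 5 ≤ r := by
    have := hrp.two_le
    rcases (show r = 3 ∨ r = 4 ∨ 5 ≤ r by omega) with rfl | rfl | h
    · exact absurd hrπ h3π
    · exact absurd hrp (by norm_num)
    · exact h
  obtain ⟨e, he⟩ := hH.exists_tr (G := ZMod 2 × ZMod 2) (k := Fintype.card α / 4) Nat.prime_two h2 (d := 2)
    (by simp) (by simpa using Nat.div_mul_le_self (Fintype.card α) 4) tr_even_klein
  obtain ⟨e', he'⟩ := hH.exists_cycles hrp (hrp.odd_of_ne_two hr2) hrπ
  have hk : 0 < Fintype.card α / r := Nat.div_pos hrn hrp.pos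
  obtain ⟨x, hxH, hx⟩ := he' ⟨0, hk⟩
  set f : ZMod r ↪ α := ⟨fun v => e' (⟨0, hk⟩, v),
    fun v w h => (Prod.mk.injEq _ _ _ _ ▸ e'.injective h).2⟩ with hf
  have hdisj : ∀ z v, e z ≠ f v := by
    rintro ⟨i, g₀⟩ v₀ heq
    let Q : ZMod 2 × ZMod 2 ↪ α := ⟨fun v => e (i, v), fun v w h => (Prod.mk.injEq _ _ _ _ ▸ e.injective h).2⟩
    have hQ : IsQuad H Q := fun w => by
      refine ⟨_, he (Pi.mulSingle i (Multiplicative.ofAdd w)), fun v => ?_, fun a ha => ?_⟩
      · show tr e _ (e (i, v)) = e (i, w + v)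
        rw [tr_apply, Pi.mulSingle_eq_same, toAdd_ofAdd]
      · by_cases h : a ∈ Set.range e
        · obtain ⟨⟨j, v⟩, rfl⟩ := h
          have hji : j ≠ i := fun e' => ha ⟨v, by subst e'; rfl⟩
          rw [tr_apply, Pi.mulSingle_eq_of_ne hji, toAdd_one, zero_add]
        · exact tr_apply_of_notMem _ _ h
    let A : Set (ZMod r) := {v | f v ∈ Set.range Q}
    have hv₀ : v₀ ∈ A := ⟨g₀, heq⟩
    have hshift : ∀ j : ℕ, (∃ a ∈ Set.range Q, (x ^ j) a ∈ Set.range Q) → ∀ v ∈ A, v + j ∈ A := by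
      rintro j ⟨a, ⟨va, rfl⟩, ha⟩ v ⟨vq, hvq⟩
      have := IsQuad.range_eq h3 (hQ.conj (pow_mem hxH j)) hQ ⟨va, rfl⟩ ha
      show f (v + j) ∈ Set.range Q
      rw [← this, ← hx.pow_apply]
      exact ⟨vq, congrArg (x ^ j) hvq⟩
    obtain ⟨j, hj, hA⟩ : ∃ j : ℕ, (j : ZMod r) ≠ 0 ∧ ∀ v ∈ A, v + j ∈ A := by
      by_cases hout : ∃ a ∈ Set.range Q, a ∉ Set.range f
      · obtain ⟨a, ha, haf⟩ := hout
        exact ⟨1, by simp, hshift 1 ⟨a, ha, by rw [pow_one, hx.fixed a haf]; exact ha⟩⟩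
      · push Not at hout
        obtain ⟨v1, h1⟩ := hout _ ⟨g₀ + (1, 0), rfl⟩
        have hne : v1 ≠ v₀ := fun h => by
          rw [h] at h1
          have := Q.injective (h1.symm.trans heq.symm)
          simp [Prod.ext_iff] at this
        refine ⟨(v1 - v₀).val, by rw [ZMod.natCast_zmod_val]; exact sub_ne_zero.2 hne,
          hshift _ ⟨Q g₀, ⟨_, rfl⟩, ?_⟩⟩
        rw [show Q g₀ = f v₀ from heq, hx.pow_apply, ZMod.natCast_zmod_val, add_sub_cancel, h1]
        exact ⟨_, rfl⟩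
    have hmul : ∀ n : ℕ, v₀ + n * j ∈ A := by
      intro n
      induction n with
      | zero => simpa using hv₀
      | succ n ih =>
        have := hA _ ih
        rwa [Nat.cast_succ, add_one_mul, ← add_assoc]
    have hall : ∀ v, v ∈ A := fun v => by
      have := hmul ((v - v₀) * (j : ZMod r)⁻¹).val
      rwa [ZMod.natCast_zmod_val, mul_assoc, inv_mul_cancel₀ hj, mul_one, add_sub_cancel] at this
    choose φ hφ using hall
    have : Function.Injective φ := fun v w h => f.injective (by rw [← hφ, h, hφ])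
    have := Fintype.card_le_of_injective φ this
    rw [ZMod.card, Fintype.card_prod, ZMod.card] at this
    omega
  let F : (Fin (Fintype.card α / 4) × (ZMod 2 × ZMod 2)) ⊕ ZMod r → α := Sum.elim e f
  have hF : Function.Injective F := e.injective.sumElim f.injective hdisj
  have := Fintype.card_le_of_injective F hF
  rw [Fintype.card_sum, Fintype.card_prod, Fintype.card_fin, Fintype.card_prod, ZMod.card, ZMod.card] at this
  have := Nat.mod_lt (Fintype.card α) (show 4 > 0 by norm_num)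
  have := Nat.div_add_mod (Fintype.card α) 4
  omega

end Cfsg.Agent.HallSym
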