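import Cfsg.Agent.KnownSimple58.HallSym.Binom
import Cfsg.Agent.KnownSimple58.HallSym.Part
import Cfsg.Agent.KnownSimple58.HallSym.Odd
import Cfsg.Agent.KnownSimple58.HallSym.Threes

/-!
The Hall subgroups of the symmetric and alternating groups.
-/

set_option autoImplicit false

namespace Cfsg.Agent.HallSym

open Equiv
open scoped Nat

/-- The parameters of a non-trivial Hall subgroup: degree and size of the larger part. -/
def Shape (n c : ℕ) : Prop := (n.Prime ∧ c + 1 = n) ∨ ((n = 7 ∨ n = 8) ∧ c = 4)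

theorem Shape.bounds {n c : ℕ} (h : Shape n c) (h5 : 5 ≤ n) : 0 < c ∧ c < n ∧ n ≤ 2 * c ∧ 3 ≤ c := by
  rcases h with ⟨hp, rfl⟩ | ⟨h7 | h7, rfl⟩ <;> omega

/-- Arithmetic of class sizes. -/
theorem sizes {n c : ℕ} (I : Finset ℕ) (k : ℕ → ℕ) (hk : ∀ s ∈ I, 1 ≤ k s)
    (hsum : ∑ s ∈ I, k s * s = n) (hI : ∀ s ∈ I, s = 1 ∨ 3 ≤ s) (hk1 : 1 ∈ I → k 1 ≤ 2)
    (hc : c ∈ I) (hmax : ∀ s ∈ I, s ≤ c) (hcn : c < n) (hc3 : 3 ≤ c)
    (hX : ∀ X, (∏ s ∈ I, s ! ^ k s * (k s)!) * X ∣ n ! → ∀ p : ℕ, p.Prime → p ≤ c → ¬ p ∣ X) :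
    Shape n c ∧ ∑ s ∈ I, k s = 2 := by
  have hterm : ∀ s ∈ I, s ! ^ k s * (k s)! ∣ (k s * s)! := fun s hs =>
    pow_factorial_mul_dvd (by rcases hI s hs with h | h <;> omega) _
  have hall : ∏ s ∈ I, (k s * s)! ∣ n ! := hsum ▸ Nat.prod_factorial_dvd_factorial_sum I _
  have hA : ∀ s ∈ I, ∀ j, j + 1 ≤ k s → ∀ p : ℕ, p.Prime → p ≤ c →
      ¬ p ∣ ((j + 1) * s - 1).choose (s - 1) := by
    intro s hs j hj
    refine hX _ (Dvd.dvd.trans ?_ hall)
    rw [← Finset.mul_prod_erase _ _ hs, ← Finset.mul_prod_erase _ _ hs, mul_right_comm]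
    exact Nat.mul_dvd_mul (pow_factorial_mul_choose_dvd (by rcases hI s hs with h | h <;> omega) _ hj)
      (Finset.prod_dvd_prod_of_dvd _ _ fun t ht => hterm t (Finset.mem_of_mem_erase ht))
  have hB : ∀ s ∈ I, ∀ t ∈ I, t ≠ s → ∀ p : ℕ, p.Prime → p ≤ c →
      ¬ p ∣ (k s * s + k t * t).choose (k t * t) := by
    intro s hs t ht hne
    refine hX _ ?_
    refine (Nat.mul_dvd_mul_right (Finset.prod_dvd_prod_of_dvd _ _ hterm) _).trans ?_
    have ht' : t ∈ I.erase s := Finset.mem_erase.2 ⟨hne, ht⟩
    rw [← Finset.mul_prod_erase _ _ hs, ← Finset.mul_prod_erase _ _ ht']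
    have e : k s * s + k t * t + ∑ u ∈ (I.erase s).erase t, k u * u = n := by
      rw [add_assoc, Finset.add_sum_erase _ (fun u => k u * u) ht', Finset.add_sum_erase _ (fun u => k u * u) hs,
        hsum]
    refine dvd_trans ?_ (e ▸ Nat.factorial_mul_factorial_dvd_factorial_add _ _)
    obtain ⟨q, hq⟩ := Nat.prod_factorial_dvd_factorial_sum ((I.erase s).erase t) (fun u => k u * u)
    refine ⟨q, ?_⟩
    rw [hq, ← Nat.add_choose_mul_factorial_mul_factorial (k s * s) (k t * t)]
    ring
  have hmult : ∀ s ∈ I, 3 ≤ s → 2 ≤ k s → s = 4 ∧ c = 4 ∧ k s = 2 := by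
    intro s hs h3 h2
    have h := hA s hs 1 h2
    rw [show (1 + 1) * s - 1 = s + (s - 1) by omega] at h
    obtain ⟨rfl, -⟩ := binom_exception (a := s) (b := s - 1) (by omega) (by omega)
      fun p hp hps => h p hp (hps.trans (hmax s hs))
    refine ⟨rfl, ?_, ?_⟩
    · by_contra hne
      have := hmax 4 hs
      exact h 5 (by norm_num) (by omega) (by decide)
    · by_contra hne
      exact hA 4 hs 2 (by omega) 3 Nat.prime_three hc3 (by decide)
  rcases Nat.lt_or_ge (k c) 2 with hkc | hkc
  · have hkc1 : k c = 1 := by have := hk c hc; omega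
    have hother : ∀ s ∈ I, s ≠ c → k s = 1 ∧ ((s = 1 ∧ (c + 1).Prime) ∨ (s = 3 ∧ c = 4)) := by
      intro s hs hne
      have hlt : s < c := lt_of_le_of_ne (hmax s hs) hne
      have h := hB c hc s hs hne
      rw [hkc1, one_mul] at h
      rcases hI s hs with rfl | h3
      · rw [mul_one] at h
        have := hk1 hs
        have := hk 1 hs
        rcases (show k 1 = 1 ∨ k 1 = 2 by omega) with e | e
        · rw [e, Nat.choose_one_right] at h
          refine ⟨e, Or.inl ⟨rfl, ?_⟩⟩
          by_contra hnp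
          have hp := Nat.minFac_prime (show c + 1 ≠ 1 by omega)
          have hle := Nat.minFac_le (show 0 < c + 1 by omega)
          have hne' : Nat.minFac (c + 1) ≠ c + 1 := fun e => hnp (e ▸ hp)
          exact h _ hp (by omega) (Nat.minFac_dvd _)
        · rw [e] at h
          obtain ⟨-, h3⟩ := binom_exception (by omega) (by omega) h
          omega
      · have hks : k s = 1 := by
          by_contra hne'
          have := hk s hs
          obtain ⟨rfl, hc4, -⟩ := hmult s hs h3 (by omega)
          omega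
        rw [hks, one_mul] at h
        obtain ⟨hc4, hs3⟩ := binom_exception (show 2 ≤ s by omega) hlt.le h
        exact ⟨hks, Or.inr ⟨hs3, hc4⟩⟩
    obtain ⟨s, hs, hne⟩ : ∃ s ∈ I, s ≠ c := by
      by_contra hnone
      push Not at hnone
      have : I = {c} := Finset.eq_singleton_iff_unique_mem.2 ⟨hc, hnone⟩
      rw [this, Finset.sum_singleton, hkc1] at hsum
      omega
    have hIeq : I = {c, s} := by
      refine Finset.Subset.antisymm (fun u hu => ?_) (fun u hu => ?_)
      · by_contra hcon
        simp only [Finset.mem_insert, Finset.mem_singleton, not_or] at hcon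
        obtain ⟨hks, h1⟩ := hother s hs hne
        obtain ⟨hku, h2⟩ := hother u hu hcon.1
        rcases h1 with ⟨rfl, -⟩ | ⟨rfl, h4⟩ <;> rcases h2 with ⟨rfl, -⟩ | ⟨rfl, h4'⟩
        · exact hcon.2 rfl
        · have := hB _ hu _ hs (Ne.symm hcon.2)
          rw [hks, hku] at this
          exact this 2 Nat.prime_two (by omega) (by decide)
        · have := hB _ hs _ hu hcon.2
          rw [hks, hku] at this
          exact this 2 Nat.prime_two (by omega) (by decide)
        · exact hcon.2 rfl
      · simp only [Finset.mem_insert, Finset.mem_singleton] at hu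
        rcases hu with rfl | rfl <;> assumption
    obtain ⟨hks, h1⟩ := hother s hs hne
    rw [hIeq, Finset.sum_pair hne.symm, hkc1, hks] at hsum
    refine ⟨?_, by rw [hIeq, Finset.sum_pair hne.symm, hkc1, hks]⟩
    rcases h1 with ⟨rfl, hp⟩ | ⟨rfl, rfl⟩
    · exact Or.inl ⟨by rw [← hsum]; simpa using hp, by omega⟩
    · exact Or.inr ⟨Or.inl (by omega), rfl⟩
  · obtain ⟨rfl, -, hk2⟩ := hmult c hc hc3 hkc
    have hIeq : I = {4} := by
      refine Finset.eq_singleton_iff_unique_mem.2 ⟨hc, fun s hs => ?_⟩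
      by_contra hne
      have h := hB 4 hc s hs hne
      rw [hk2] at h
      have hle := hmax s hs
      rcases hI s hs with rfl | h3
      · have := hk1 hs
        have := hk 1 hs
        rcases (show k 1 = 1 ∨ k 1 = 2 by omega) with e | e <;> rw [e] at h <;>
          exact h 3 Nat.prime_three (by norm_num) (by decide)
      · obtain rfl : s = 3 := by omega
        have : k 3 = 1 := by
          by_contra hne'
          have := hk 3 hs
          have := (hmult 3 hs le_rfl (by omega)).1
          omega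
        rw [this] at h
        exact h 3 Nat.prime_three (by norm_num) (by decide)
    rw [hIeq, Finset.sum_singleton, hk2] at hsum
    exact ⟨Or.inr ⟨Or.inr (by omega), rfl⟩, by rw [hIeq, Finset.sum_singleton, hk2]⟩

variable {α : Type*} [Fintype α] [DecidableEq α]

/-- A Hall subgroup for at least two but not all primes preserves a partition in two parts of known sizes. -/
theorem classify {π : Set ℕ} {H : Subgroup (Perm α)} (hH : HallA π H)
    (h2 : ∃ r s : ℕ, r.Prime ∧ s.Prime ∧ r ≠ s ∧ r ∈ π ∧ s ∈ π ∧ r ≤ Fintype.card α ∧ s ≤ Fintype.card α)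
    (hns : ∃ r : ℕ, r.Prime ∧ r ≤ Fintype.card α ∧ r ∉ π) :
    ∃ (T : Finset α) (c : ℕ), T.card = c ∧ Shape (Fintype.card α) c ∧
      (∀ r : ℕ, r.Prime → r ≤ Fintype.card α → (r ∈ π ↔ r ≤ c)) ∧ H ≤ part (ind T) := by
  classical
  have h2π : 2 ∈ π := two_mem hH h2
  have h3π : 3 ∈ π := by
    refine three_mem hH h2π ?_
    obtain ⟨r, s, hr, hs, hne, hrπ, hsπ, hrn, hsn⟩ := h2
    by_cases h : r = 2
    · exact ⟨s, hs, fun e => hne (h.trans e.symm), hsπ, hsn⟩
    · exact ⟨r, hr, h, hrπ, hrn⟩
  obtain ⟨t, ht, htn, htπ⟩ := hns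
  have hn5 : 5 ≤ Fintype.card α := by
    have := ht.two_le
    rcases (show t = 2 ∨ t = 3 ∨ t = 4 ∨ 5 ≤ t by omega) with rfl | rfl | rfl | h
    · exact absurd h2π htπ
    · exact absurd h3π htπ
    · exact absurd ht (by norm_num)
    · omega
  obtain ⟨e3, he3⟩ := hH.exists_cycles Nat.prime_three (by decide) h3π
  let S : Setoid α := ⟨Rel H, rel_equiv H⟩
  let mk : α → Quotient S := Quotient.mk S
  have hmk : ∀ a b, mk a = mk b ↔ Rel H a b := fun a b => Quotient.eq (r := S)
  haveI : Fintype (Quotient S) := Fintype.ofFinite _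
  have hpart : H ≤ part mk := fun g hg a b => by rw [hmk, hmk]; exact rel_iff hg a b
  let Iso : Set α := {a | ∀ b, Rel H a b → a = b}
  have hiso : Iso ⊆ (Set.range e3)ᶜ := by
    rintro a ha ⟨⟨i, v⟩, rfl⟩
    obtain ⟨x, hxH, hx⟩ := he3 i
    have := hx.tri hxH v
    exact this.ab (ha _ (Or.inr ⟨_, this⟩))
  have hisocard : Iso.ncard ≤ 2 := by
    refine (Set.ncard_le_ncard hiso (Set.toFinite _)).trans ?_
    have := Set.ncard_add_ncard_compl (Set.range e3)
    rw [← Nat.card_coe_set_eq, Nat.card_range_of_injective e3.injective, Nat.card_prod, Nat.card_fin,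
      Nat.card_zmod, Nat.card_eq_fintype_card (α := α)] at this
    have := Nat.mod_lt (Fintype.card α) (show 3 > 0 by norm_num)
    have := Nat.div_add_mod (Fintype.card α) 3
    omega
  have hsz : ∀ q, sz mk q = 1 ∨ 3 ≤ sz mk q := by
    intro q
    obtain ⟨a, rfl⟩ := Quotient.exists_rep q
    by_cases hb : ∃ b, Rel H a b ∧ a ≠ b
    · obtain ⟨b, hab, hne⟩ := hb
      obtain ⟨c, hc⟩ := hab.resolve_left hne
      right
      let ψ : Fin 3 → {x // mk x = mk a} := ![⟨a, rfl⟩, ⟨b, ((hmk a b).2 (Or.inr ⟨c, hc⟩)).symm⟩,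
        ⟨c, ((hmk a c).2 (Or.inr ⟨b, hc.rev.rot.rot.rot.rot.rev.rot.rev.rot.rot⟩)).symm⟩]
      have hψ : Function.Injective ψ := by
        intro i j e
        fin_cases i <;> fin_cases j <;> simp [ψ, hc.ab, hc.bc, hc.ac, hc.ab.symm, hc.bc.symm, hc.ac.symm] at e ⊢
      have := Nat.card_le_card_of_injective ψ hψ
      rwa [Nat.card_fin] at this
    · left
      push Not at hb
      rw [sz, Nat.card_eq_one_iff_unique]
      exact ⟨⟨fun x y => Subtype.ext ((hb _ ((hmk a _).1 x.2.symm)).symm.trans (hb _ ((hmk a _).1 y.2.symm)))⟩,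
        ⟨⟨a, rfl⟩⟩⟩
  have hk1 : Nat.card {q // sz mk q = 1} ≤ 2 := by
    refine le_trans ?_ hisocard
    rw [← Nat.card_coe_set_eq]
    refine Nat.card_le_card_of_injective (fun q => (⟨q.1.out, fun b hb => ?_⟩ : Iso))
      fun q q' e => Subtype.ext (Quotient.out_injective (congrArg Subtype.val e))
    have : Subsingleton {a // mk a = q.1} := (Nat.card_eq_one_iff_unique.1 q.2).1
    have e1 : mk q.1.out = q.1 := Quotient.out_eq _
    exact congrArg Subtype.val
      (Subsingleton.elim (⟨_, e1⟩ : {a // mk a = q.1}) ⟨b, ((hmk _ _).2 hb).symm.trans e1⟩)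
  -- a class of maximal size
  have hne : (Finset.univ.image (sz mk)).Nonempty := by
    obtain ⟨a⟩ : Nonempty α := Fintype.card_pos_iff.1 (by omega)
    exact ⟨_, Finset.mem_image.2 ⟨mk a, Finset.mem_univ _, rfl⟩⟩
  set I := Finset.univ.image (sz mk) with hI
  set c := I.max' hne with hcdef
  have hcmem : c ∈ I := I.max'_mem hne
  obtain ⟨q0, -, hq0⟩ := Finset.mem_image.1 hcmem
  have hszle : ∀ q, sz mk q ≤ c := fun q => I.le_max' _ (Finset.mem_image.2 ⟨q, Finset.mem_univ _, rfl⟩)
  have hc3 : 3 ≤ c := by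
    rcases hsz q0 with h | h
    · exfalso
      have hall : ∀ q, sz mk q = 1 := fun q => by rcases hsz q with h' | h' <;> have := hszle q <;> omega
      have h1 := sum_sz mk
      simp only [hall, Finset.sum_const, Finset.card_univ, smul_eq_mul, mul_one] at h1
      have h2' : Nat.card {q // sz mk q = 1} = Fintype.card (Quotient S) := by
        rw [Nat.card_congr (Equiv.subtypeUnivEquiv hall), Nat.card_eq_fintype_card]
      omega
    · omega
  -- the prime divisors
  have hsmall : ∀ p : ℕ, p.Prime → p ≤ c → p ∈ π := by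
    intro p hp hpc
    rcases hp.eq_two_or_odd' with rfl | hodd
    · exact h2π
    obtain ⟨a₀, rfl⟩ := Quotient.exists_rep q0
    haveI := Fact.mk hp
    set X := {x // Rel H a₀ x}
    have hX : Fintype.card X = c := by
      rw [← hq0, sz, Nat.card_eq_fintype_card]
      exact Fintype.card_congr (Equiv.subtypeEquivRight fun x => by rw [← hmk]; exact eq_comm)
    haveI : Nontrivial X := Fintype.one_lt_card_iff_nontrivial.1 (by omega)
    have hd : p ∣ Nat.card (alternatingGroup X) := by
      have h := two_mul_nat_card_alternatingGroup (α := X)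
      have : p ∣ 2 * Nat.card (alternatingGroup X) := by
        rw [h, Nat.card_perm, Nat.card_eq_fintype_card, hX]; exact Nat.dvd_factorial hp.pos hpc
      exact (Nat.Coprime.dvd_of_dvd_mul_left (hodd.coprime_two_right) this)
    refine hH.1 p hp (hd.trans ?_)
    rw [← Subgroup.card_map_of_injective (Perm.ofSubtype_injective (p := Rel H a₀))]
    refine Subgroup.card_dvd_of_le ?_
    rintro _ ⟨σ, hσ, rfl⟩
    exact ofSubtype_mem σ hσ
  have hbig : ∀ r : ℕ, r.Prime → r ≤ Fintype.card α → r ∈ π → r ≤ c := by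
    intro r hr hrn hrπ
    by_contra hlt
    haveI := Fact.mk hr
    haveI : NeZero r := ⟨hr.ne_zero⟩
    obtain ⟨e, he⟩ := hH.exists_cycles hr (hr.odd_of_ne_two (by omega)) hrπ
    obtain ⟨x, hxH, hx⟩ := he ⟨0, Nat.div_pos hrn hr.pos⟩
    set f : ZMod r ↪ α := ⟨fun v => e (⟨0, Nat.div_pos hrn hr.pos⟩, v),
      fun v w h => (Prod.mk.injEq _ _ _ _ ▸ e.injective h).2⟩
    obtain ⟨v₀, hv₀⟩ : ∃ v₀, f v₀ ∉ Iso := by
      by_contra hall
      push Not at hall
      have := Nat.card_le_card_of_injective (fun v => (⟨f v, hall v⟩ : Iso))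
        (fun v w h => f.injective (congrArg Subtype.val h))
      rw [Nat.card_zmod, Nat.card_coe_set_eq] at this
      omega
    obtain ⟨w, hw, hne'⟩ : ∃ w, Rel H (f v₀) w ∧ f v₀ ≠ w := by
      by_contra hnone
      push Not at hnone
      exact hv₀ hnone
    have hall := hx.absorb (rel_equiv H) (fun a b h => h.conj hxH) (Ne.symm hne') hw
    have := Nat.card_le_card_of_injective
      (fun v => (⟨f v, ((hmk _ _).2 (hall v)).symm⟩ : {a // mk a = mk (f v₀)}))
      (fun v w h => f.injective (congrArg Subtype.val h))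
    rw [Nat.card_zmod] at this
    exact hlt (this.trans (hszle _))
  have hcn : c < Fintype.card α := by
    by_contra hge
    exact htπ (hsmall t ht (by omega))
  -- the index of the stabiliser of the partition
  have hidx : ∀ p : ℕ, p.Prime → p ∈ π → ¬ p ∣ (part mk).index := by
    have hodd : ∃ g ∈ part mk, Perm.sign g = -1 := by
      obtain ⟨a₀, rfl⟩ := Quotient.exists_rep q0
      have : Nontrivial {a // mk a = mk a₀} :=
        Finite.one_lt_card_iff_nontrivial.1 (show 1 < sz mk ⟦a₀⟧ by omega)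
      obtain ⟨⟨b, hb⟩, hne'⟩ := exists_ne (⟨a₀, rfl⟩ : {a // mk a = mk a₀})
      exact ⟨_, fib_le_part _ (swap_mem_fib hb.symm), Perm.sign_swap fun e => hne' (Subtype.ext e.symm)⟩
    haveI : Nontrivial α := Fintype.one_lt_card_iff_nontrivial.1 (by omega)
    intro p hp hpπ hd
    have heq : (part mk).relIndex (alternatingGroup α) = (part mk).index := by
      have h1 : (part mk ⊓ alternatingGroup α).relIndex (alternatingGroup α) * (alternatingGroup α).index =
          (part mk ⊓ alternatingGroup α).index := Subgroup.relIndex_mul_index inf_le_right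
      have h2 : (part mk ⊓ alternatingGroup α).relIndex (part mk) * (part mk).index =
          (part mk ⊓ alternatingGroup α).index := Subgroup.relIndex_mul_index inf_le_left
      rw [Subgroup.inf_relIndex_left] at h2
      rw [Subgroup.inf_relIndex_right, alternatingGroup.index_eq_two] at h1
      have h3 : (alternatingGroup α).relIndex (part mk) = 2 := by
        have hdvd : (alternatingGroup α).relIndex (part mk) ∣ 2 := by
          rw [← alternatingGroup.index_eq_two (α := α)]
          exact Subgroup.relIndex_dvd_index_of_normal _ _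
        rcases (Nat.dvd_prime Nat.prime_two).1 hdvd with h | h
        · obtain ⟨g, hg, hs⟩ := hodd
          have := Equiv.Perm.mem_alternatingGroup.1 (Subgroup.relIndex_eq_one.1 h hg)
          rw [hs] at this
          exact absurd this (by decide)
        · exact h
      rw [h3] at h2
      omega
    apply hH.2 p hp hpπ
    show p ∣ H.relIndex (alternatingGroup α)
    exact (heq ▸ hd).trans (Subgroup.relIndex_dvd_of_le_left _ hpart)
  have hX : ∀ X, (∏ s ∈ I, s ! ^ Nat.card {q // sz mk q = s} * (Nat.card {q // sz mk q = s})!) * X ∣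
      (Fintype.card α)! → ∀ p : ℕ, p.Prime → p ≤ c → ¬ p ∣ X := by
    intro X hXd p hp hpc hpX
    refine hidx p hp (hsmall p hp hpc) (hpX.trans ?_)
    have hF : partBound mk = ∏ s ∈ I, s ! ^ Nat.card {q // sz mk q = s} * (Nat.card {q // sz mk q = s})! := by
      rw [partBound, Finset.prod_mul_distrib, Finset.prod_comp (fun s => s !) (sz mk)]
      congr 1
      refine Finset.prod_congr rfl fun s _ => ?_
      rw [Nat.card_eq_fintype_card, Fintype.card_subtype]
    have hd := (Nat.mul_dvd_mul_right (card_part_dvd (f := mk) Quotient.mk_surjective) X).trans (hF ▸ hXd)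
    rw [← Nat.card_eq_fintype_card (α := α), ← Nat.card_perm, ← (part mk).card_mul_index] at hd
    exact Nat.dvd_of_mul_dvd_mul_left Nat.card_pos hd
  have hksum : ∑ s ∈ I, Nat.card {q // sz mk q = s} * s = Fintype.card α := by
    rw [← sum_sz mk, Finset.sum_comp (fun s => s) (sz mk)]
    exact Finset.sum_congr rfl fun s _ => by rw [Nat.card_eq_fintype_card, Fintype.card_subtype, smul_eq_mul]
  obtain ⟨hshape, hk2⟩ := sizes I (fun s => Nat.card {q // sz mk q = s})
    (fun s hs => by
      obtain ⟨q, -, hq⟩ := Finset.mem_image.1 hs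
      haveI : Nonempty {q // sz mk q = s} := ⟨⟨q, hq⟩⟩
      exact Nat.card_pos)
    hksum (fun s hs => by obtain ⟨q, -, rfl⟩ := Finset.mem_image.1 hs; exact hsz q) (fun _ => hk1) hcmem
    (fun s hs => I.le_max' s hs) hcn hc3 hX
  have hQ2 : Fintype.card (Quotient S) = 2 := by
    rw [← hk2, ← Finset.card_univ, Finset.card_eq_sum_card_image (sz mk) Finset.univ]
    exact Finset.sum_congr rfl fun s _ => by rw [Nat.card_eq_fintype_card, Fintype.card_subtype]
  refine ⟨Finset.univ.filter fun a => mk a = q0, c, ?_, hshape, fun r hr hrn => ⟨hbig r hr hrn, hsmall r hr⟩, ?_⟩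
  · rw [← hq0, sz, Nat.card_eq_fintype_card, Fintype.card_subtype]
  · refine hpart.trans fun g hg => ?_
    have key : ∀ a b, mk a = mk b ↔
        ind (Finset.univ.filter fun a => mk a = q0) a = ind (Finset.univ.filter fun a => mk a = q0) b := by
      intro a b
      simp only [ind, Finset.mem_filter, Finset.mem_univ, true_and, decide_eq_decide]
      refine ⟨fun h => by rw [h], fun h => ?_⟩
      by_cases ha : mk a = q0
      · rw [ha, h.1 ha]
      · by_contra hne'
        have hb : mk b ≠ q0 := fun e => ha (h.2 e)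
        have : ({mk a, mk b, q0} : Finset (Quotient S)).card ≤ 2 := hQ2 ▸ Finset.card_le_univ _
        simp [hne', ha, hb] at this
    intro a b
    rw [← key, ← key]; exact hg a b

end Cfsg.Agent.HallSym
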